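import Groth.Agent.Eg2Bundle.Agree

/-!
# Gluing morphisms of relative `Proj`s from chartwise graded homomorphisms
-/

universe u

open CategoryTheory CategoryTheory.Limits AlgebraicGeometry TopologicalSpace Opposite HomogeneousLocalization
open scoped HomogeneousIdeal

set_option backward.isDefEq.respectTransparency false
set_option backward.isDefEq.respectTransparency.types false

noncomputable section

namespace Groth.Agent.Eg2Bundle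

variable {Y P Q : Scheme.{u}} {𝒮 𝒯 : RelProj.QCGrAlg Y} {p : P ⟶ Y} {q : Q ⟶ Y}
  {chart : ∀ (U : Y.Opens) (hU : IsAffineOpen U), ((p ⁻¹ᵁ U : P.Opens) : Scheme.{u}) ≅ Proj (𝒮.deg U hU)}
  {chartQ : ∀ (U : Y.Opens) (hU : IsAffineOpen U), ((q ⁻¹ᵁ U : Q.Opens) : Scheme.{u}) ≅ Proj (𝒯.deg U hU)}

theorem map_emb_proj (hP : RelProj.IsRelProj 𝒮 p chart) (hQ : RelProj.IsRelProj 𝒯 q chartQ)
    {U : Y.Opens} (hU : IsAffineOpen U) (φ : 𝒯.deg U hU →+*ᵍ 𝒮.deg U hU)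
    (hφ : (𝒮.deg U hU)₊ ≤ ((𝒯.deg U hU)₊).map φ)
    (hstr : ∀ r, φ ((𝒯.str.app (op U)).hom r) = (𝒮.str.app (op U)).hom r) :
    Proj.map φ hφ ≫ RelProj.emb q chartQ U hU ≫ q = RelProj.emb p chart U hU ≫ p := by
  rw [EgaQ.emb_π hQ U hU, EgaQ.emb_π hP U hU]
  refine (Proj.mapAffineOpenCover _ hφ).openCover.hom_ext _ _ ?_
  suffices h : ∀ (d : ℕ) (hd : 0 < d) (a : 𝒯.presheaf.obj (op U)) (ha : a ∈ 𝒯.deg U hU d),
      Proj.awayι (𝒮.deg U hU) (φ a) (φ.2 ha) hd ≫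
        Proj.map φ hφ ≫ Proj.toSpecZero (𝒯.deg U hU) ≫ Spec.map (𝒯.strZero U hU) ≫ hU.fromSpec =
      Proj.awayι (𝒮.deg U hU) (φ a) (φ.2 ha) hd ≫
          Proj.toSpecZero (𝒮.deg U hU) ≫ Spec.map (𝒮.strZero U hU) ≫ hU.fromSpec from
    fun s ↦ h s.1 s.1.2 s.2 s.2.2
  intro d hd a ha
  rw [Proj.awayι_comp_map_assoc _ _ hd a ha, Proj.awayι_toSpecZero_assoc,
    Proj.awayι_toSpecZero_assoc, ← Spec.map_comp_assoc, ← Spec.map_comp_assoc,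
    ← Spec.map_comp_assoc]
  congr 2
  ext r
  simp only [CommRingCat.hom_comp, CommRingCat.hom_ofHom, RingHom.comp_apply,
    HomogeneousLocalization.Away.map, HomogeneousLocalization.fromZeroRingHom, RingHom.coe_mk,
    MonoidHom.coe_mk, OneHom.coe_mk, HomogeneousLocalization.map_mk, HomogeneousLocalization.val_mk]
  refine congr_arg₂ Localization.mk ?_ (Subtype.ext (map_one _))
  exact hstr r

set_option maxHeartbeats 1600000 in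
/-- Chartwise graded homomorphisms agreeing locally glue. -/
theorem exists_glueProj (hP : RelProj.IsRelProj 𝒮 p chart) (hQ : RelProj.IsRelProj 𝒯 q chartQ)
    {ι : Type u} (U : ι → Y.Opens) (hU : ∀ a, IsAffineOpen (U a)) (hcov : ∀ y, ∃ a, y ∈ U a)
    (φ : ∀ a, 𝒯.deg (U a) (hU a) →+*ᵍ 𝒮.deg (U a) (hU a))
    (hφ : ∀ a, (𝒮.deg (U a) (hU a))₊ ≤ ((𝒯.deg (U a) (hU a))₊).map (φ a))
    (hstr : ∀ a r, φ a ((𝒯.str.app (op (U a))).hom r) = (𝒮.str.app (op (U a))).hom r)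
    (hagree : ∀ (a b : ι) (D : Y.Opens) (hD : IsAffineOpen D) (ia : D ≤ U a) (ib : D ≤ U b),
      (∃ r : Γ(Y, U a), Y.basicOpen r = D) → (∃ r : Γ(Y, U b), Y.basicOpen r = D) →
      ∃ (ψ ψ' : 𝒯.deg D hD →+*ᵍ 𝒮.deg D hD) (h : (𝒮.deg D hD)₊ ≤ ((𝒯.deg D hD)₊).map ψ)
        (h' : (𝒮.deg D hD)₊ ≤ ((𝒯.deg D hD)₊).map ψ'),
        (𝒮.res (hU a) hD ia).comp (φ a) = ψ.comp (𝒯.res (hU a) hD ia) ∧
        (𝒮.res (hU b) hD ib).comp (φ b) = ψ'.comp (𝒯.res (hU b) hD ib) ∧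
        Proj.map ψ h = Proj.map ψ' h') :
    ∃ r : P ⟶ Q, r ≫ q = p ∧ ∀ a, RelProj.emb p chart (U a) (hU a) ≫ r =
      Proj.map (φ a) (hφ a) ≫ RelProj.emb q chartQ (U a) (hU a) := by
  obtain ⟨F, hF⟩ : ∃ F : ∀ a, (p ⁻¹ᵁ U a).toScheme ⟶ Q, ∀ a, F a =
      (chart (U a) (hU a)).hom ≫ Proj.map (φ a) (hφ a) ≫ RelProj.emb q chartQ (U a) (hU a) :=
    ⟨_, fun a => rfl⟩
  have step : ∀ (a : ι) (D : Y.Opens) (hD : IsAffineOpen D) (ia : D ≤ U a),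
      (∃ r : Γ(Y, U a), Y.basicOpen r = D) →
      ∀ (ψ : 𝒯.deg D hD →+*ᵍ 𝒮.deg D hD) (h : (𝒮.deg D hD)₊ ≤ ((𝒯.deg D hD)₊).map ψ),
        (𝒮.res (hU a) hD ia).comp (φ a) = ψ.comp (𝒯.res (hU a) hD ia) →
        P.homOfLE (p.preimage_mono ia) ≫ F a =
          (chart D hD).hom ≫ Proj.map ψ h ≫ RelProj.emb q chartQ D hD := by
    rintro a D hD ia ⟨r, rfl⟩ ψ h e
    rw [hF]
    rw [reassoc_of% (hP.chart_res (U a) (hU a) r), ← RelProj.map_res_emb hQ (U a) (hU a) r]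
    congr 1
    rw [← Category.assoc, ← Category.assoc, ← Proj.map_comp, ← Proj.map_comp]
    exact congrArg (· ≫ _) (Proj16.proj_map_congr e _ _)
  have hcov' : IsOpenCover (fun a => p ⁻¹ᵁ U a) :=
    top_le_iff.mp fun x _ => Opens.mem_iSup.mpr (hcov (p x))
  let 𝒰 := P.openCoverOfIsOpenCover (fun a => p ⁻¹ᵁ U a) hcov'
  have overlap : ∀ a b, P.homOfLE (inf_le_left : p ⁻¹ᵁ U a ⊓ p ⁻¹ᵁ U b ≤ p ⁻¹ᵁ U a) ≫ F a =
      P.homOfLE (inf_le_right : p ⁻¹ᵁ U a ⊓ p ⁻¹ᵁ U b ≤ p ⁻¹ᵁ U b) ≫ F b := fun a b => by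
    refine hom_ext_locally _ _ fun w hw => ?_
    obtain ⟨t, t', htt, hwt⟩ := exists_basicOpen_le_affine_inter (hU a) (hU b) (p w) ⟨hw.1, hw.2⟩
    have hD : IsAffineOpen (Y.basicOpen t) := (hU a).basicOpen t
    have ia : Y.basicOpen t ≤ U a := Y.basicOpen_le t
    have ib : Y.basicOpen t ≤ U b := htt ▸ Y.basicOpen_le t'
    obtain ⟨ψ, ψ', h, h', e, e', heq⟩ := hagree a b _ hD ia ib ⟨t, rfl⟩ ⟨t', htt.symm⟩
    refine ⟨p ⁻¹ᵁ Y.basicOpen t, le_inf (p.preimage_mono ia) (p.preimage_mono ib), hwt, ?_⟩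
    rw [← Category.assoc, ← Category.assoc, Scheme.homOfLE_homOfLE, Scheme.homOfLE_homOfLE]
    exact ((step a _ hD ia ⟨t, rfl⟩ ψ h e).trans
      (congrArg (fun m => (chart _ hD).hom ≫ m ≫ RelProj.emb q chartQ _ hD) heq)).trans
      (step b _ hD ib ⟨t', htt.symm⟩ ψ' h' e').symm
  let r : P ⟶ Q := 𝒰.glueMorphisms F fun a b => by
    rw [← cancel_epi (isPullback_opens_inf (p ⁻¹ᵁ U a) (p ⁻¹ᵁ U b)).isoPullback.hom, ← Category.assoc,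
      ← Category.assoc]
    erw [IsPullback.isoPullback_hom_fst, IsPullback.isoPullback_hom_snd]
    exact overlap a b
  have hr : ∀ a, RelProj.emb p chart (U a) (hU a) ≫ r =
      Proj.map (φ a) (hφ a) ≫ RelProj.emb q chartQ (U a) (hU a) := fun a => by
    rw [RelProj.emb, Category.assoc, show (p ⁻¹ᵁ U a).ι ≫ r = F a from 𝒰.ι_glueMorphisms _ _ a]
    rw [hF, Iso.inv_hom_id_assoc]
  refine ⟨r, 𝒰.hom_ext _ _ fun a => ?_, hr⟩
  show (p ⁻¹ᵁ U a).ι ≫ r ≫ q = (p ⁻¹ᵁ U a).ι ≫ p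
  rw [← cancel_epi (chart (U a) (hU a)).inv, ← Category.assoc, ← Category.assoc,
    ← Category.assoc (chart (U a) (hU a)).inv]
  show (RelProj.emb p chart (U a) (hU a) ≫ r) ≫ q = RelProj.emb p chart (U a) (hU a) ≫ p
  rw [hr, Category.assoc, map_emb_proj hP hQ (hU a) (φ a) (hφ a) (hstr a)]

end Groth.Agent.Eg2Bundle
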