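import Groth.Agent.Eg2Bundle.Kappa

/-!
# The chart maps of a quotient of `g^* E` agree
-/

universe u

open CategoryTheory CategoryTheory.Limits AlgebraicGeometry TopologicalSpace Opposite HomogeneousLocalization
open Groth.Agent.AModX
open scoped HomogeneousIdeal

set_option backward.isDefEq.respectTransparency false
set_option backward.isDefEq.respectTransparency.types false

noncomputable section

namespace Groth.Agent.Eg2Bundle

open Groth.Agent.Eg2Sym

variable {Y X P : Scheme.{u}} {E : Y.Modules} {𝒮 : RelProj.QCGrAlg Y} {j : E ⟶ 𝒮.toModule} {p : P ⟶ Y}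
  {chart : ∀ (U : Y.Opens) (hU : IsAffineOpen U), ((p ⁻¹ᵁ U : P.Opens) : Scheme.{u}) ≅ Proj (𝒮.deg U hU)}
  {g : X ⟶ Y} {L : X.Modules} {σ : E ⟶ (Scheme.Modules.pushforward g).obj L}
  (hE : Coh.IsQCoh E) (hj : RelProj.IsGrSymAlg E 𝒮 j) (hP : RelProj.IsRelProj 𝒮 p chart)

lemma awayι_map_eq {A B : Type u} [CommRing A] [CommRing B]
    (𝒜 : ℕ → AddSubgroup A) (ℬ : ℕ → AddSubgroup B) [GradedRing 𝒜] [GradedRing ℬ]
    (φ : 𝒜 →+*ᵍ ℬ) (hφ : HomogeneousIdeal.irrelevant ℬ ≤ (HomogeneousIdeal.irrelevant 𝒜).map φ)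
    {i : ℕ} (hi : 0 < i) {s : A} (hs : s ∈ 𝒜 i)
    {t : B} (ht : t ∈ ℬ i) (hst : φ s = t) (hle : Submonoid.powers s ≤ Submonoid.comap φ (Submonoid.powers t)) :
    Proj.awayι ℬ t ht hi ≫ Proj.map φ hφ =
      Spec.map (CommRingCat.ofHom (HomogeneousLocalization.map φ hle)) ≫ Proj.awayι 𝒜 s hs hi := by
  subst hst
  exact Proj.awayι_comp_map φ hφ hi s hs

include hP in
theorem specMap_crRes_jmor {U D : Y.Opens} (hU : IsAffineOpen U) (hD : IsAffineOpen D) (i : D ≤ U)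
    (hb : ∃ r : Γ(Y, U), Y.basicOpen r = D) (e : Γ(E, U)) :
    Spec.map (CommRingCat.ofHom (crRes (j := j) hU hD i e)) ≫ jmor chart hj hU e =
      jmor chart hj hD (res E i e) := by
  rw [jmor, jmor, ← Category.assoc, crRes,
    ← awayι_map_eq _ _ (𝒮.res hU hD i) (Proj16.irrelevant_le_res 𝒮 hU hD i hb) one_pos
      (jApp_mem_one hj hU e) (jApp_mem_one hj hD (res E i e)) (jApp_res (A := 𝒮.toQCAlg) j (homOfLE i) e),
    Category.assoc, EgaQ.map_res_emb' hP hU hD i hb]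

include hE hP in
/-- Restricting to a basic open of the base does not change the chart map. -/
theorem chartMap_basic {U D : Y.Opens} (hU : IsAffineOpen U) (hD : IsAffineOpen D) (i : D ≤ U)
    (hb : ∃ r : Γ(Y, U), Y.basicOpen r = D) (e : Γ(E, U)) {V : X.Opens} (hV : V ≤ g ⁻¹ᵁ D)
    (hVU : V ≤ g ⁻¹ᵁ U)
    (he : InvX.IsFrame (sec g σ hVU e)) {κ : CR j hU e →+* Γ(X, V)} (hκ : IsKappa σ hj hU e hVU κ)
    {κ' : CR j hD (res E i e) →+* Γ(X, V)} (hκ' : IsKappa σ hj hD (res E i e) hV κ') :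
    chartMap chart hj hU e κ = chartMap chart hj hD (res E i e) κ' := by
  have h1 : κ = κ'.comp (crRes hU hD i e) :=
    isKappa_unique hE hj hU e hVU he hκ (isKappa_crRes hj hU hD i e hV hκ')
  rw [chartMap, chartMap, h1, CommRingCat.ofHom_comp, Spec.map_comp, Category.assoc,
    specMap_crRes_jmor hj hP hU hD i hb e]

include hE in
/-- Two sections giving frames on the same open give the same chart map. -/
theorem chartMap_same {U : Y.Opens} (hU : IsAffineOpen U) (e e' : Γ(E, U)) {V : X.Opens}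
    (h : V ≤ g ⁻¹ᵁ U) (he : InvX.IsFrame (sec g σ h e)) (he' : InvX.IsFrame (sec g σ h e'))
    {κ : CR j hU e →+* Γ(X, V)} (hκ : IsKappa σ hj hU e h κ)
    {κ' : CR j hU e' →+* Γ(X, V)} (hκ' : IsKappa σ hj hU e' h κ') :
    chartMap chart hj hU e κ = chartMap chart hj hU e' κ' := by
  set f : 𝒮.presheaf.obj (op U) := jApp (A := 𝒮.toQCAlg) j U e with hf
  set f' : 𝒮.presheaf.obj (op U) := jApp (A := 𝒮.toQCAlg) j U e' with hf'
  have hfm : f ∈ 𝒮.deg U hU 1 := jApp_mem_one hj hU e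
  have hfm' : f' ∈ 𝒮.deg U hU 1 := jApp_mem_one hj hU e'
  have hx : f * f' = f * f' := rfl
  have hx' : f * f' = f' * f := mul_comm _ _
  have hunit : IsUnit (κ (gen1 hj hU e e')) :=
    IsUnit.of_mul_eq_one (κ' (gen1 hj hU e' e)) (he.coord_unique le_rfl (by
      rw [res_self, one_smul, mul_comm, mul_smul, ← hκ.2, ← hκ'.2]))
  let : Algebra (Away (𝒮.deg U hU) f) (Away (𝒮.deg U hU) (f * f')) :=
    (awayMap (𝒮.deg U hU) hfm' hx).toAlgebra
  have : IsLocalization.Away (Away.isLocalizationElem hfm hfm') (Away (𝒮.deg U hU) (f * f')) :=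
    Away.isLocalization_mul hfm hfm' hx one_ne_zero
  have hel : Away.isLocalizationElem hfm hfm' = gen1 hj hU e e' := by
    refine val_injective _ ?_
    show (Away.mk (𝒮.deg U hU) hfm 1 _ _).val = _
    rw [gen1, Away.val_mk, Away.val_mk]
    simp [hf', hf]
  let κ2 : Away (𝒮.deg U hU) (f * f') →+* Γ(X, V) :=
    IsLocalization.Away.lift (Away.isLocalizationElem hfm hfm') (g := κ) (by rw [hel]; exact hunit)
  have hlift : ∀ a, κ2 (awayMap (𝒮.deg U hU) hfm' hx a) = κ a := fun a =>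
    IsLocalization.Away.lift_eq (Away.isLocalizationElem hfm hfm') _ a
  have h2 : κ2.comp (awayMap (𝒮.deg U hU) hfm hx') = κ' := by
    refine isKappa_unique hE hj hU e' h he' ⟨fun r => ?_, fun x => ?_⟩ hκ'
    · show κ2 (awayMap (𝒮.deg U hU) hfm hx' (cst hj hU e' r)) = _
      rw [show awayMap (𝒮.deg U hU) hfm hx' (cst hj hU e' r) =
          awayMap (𝒮.deg U hU) hfm' hx (cst hj hU e r) by
        refine val_injective _ ?_
        rw [cst, cst, awayMap_mk, awayMap_mk, Away.val_mk, Away.val_mk]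
        exact Localization.mk_eq_mk_iff.mpr (Localization.r_of_eq (by simp)), hlift, hκ.1]
    · show _ = κ2 (awayMap (𝒮.deg U hU) hfm hx' (gen1 hj hU e' x)) • _
      have e1 : awayMap (𝒮.deg U hU) hfm hx' (gen1 hj hU e' x) *
          awayMap (𝒮.deg U hU) hfm' hx (gen1 hj hU e e') =
            awayMap (𝒮.deg U hU) hfm' hx (gen1 hj hU e x) := by
        refine val_injective _ ?_
        rw [val_mul, gen1, gen1, gen1, awayMap_mk, awayMap_mk, awayMap_mk, Away.val_mk, Away.val_mk,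
          Away.val_mk, Localization.mk_mul]
        refine Localization.mk_eq_mk_iff.mpr (Localization.r_of_eq ?_)
        simp [← hf']
        ring
      have e2 := congrArg κ2 e1
      rw [map_mul, hlift, hlift] at e2
      rw [hκ.2 x, hκ.2 e', ← mul_smul, e2]
  have h1 : κ2.comp (awayMap (𝒮.deg U hU) hfm' hx) = κ := RingHom.ext hlift
  rw [chartMap, chartMap, ← h1, ← h2, CommRingCat.ofHom_comp, CommRingCat.ofHom_comp, Spec.map_comp,
    Spec.map_comp, Category.assoc, Category.assoc, jmor, jmor]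
  congr 2
  rw [← Category.assoc, ← Category.assoc]
  congr 1
  exact (Proj.SpecMap_awayMap_awayι (𝒮.deg U hU) hfm one_pos hfm' hx).trans
    (Proj.SpecMap_awayMap_awayι (𝒮.deg U hU) hfm' one_pos hfm hx').symm

/-- Morphisms on an open subscheme agree if they agree locally. -/
lemma hom_ext_locally {W : X.Opens} {Z : Scheme.{u}} (a b : W.toScheme ⟶ Z)
    (H : ∀ w ∈ W, ∃ (W' : X.Opens) (hW : W' ≤ W), w ∈ W' ∧ X.homOfLE hW ≫ a = X.homOfLE hW ≫ b) :
    a = b := by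
  choose W' hW hw heq using H
  let 𝒰 := W.toScheme.openCoverOfIsOpenCover (fun w : W => W.ι ⁻¹ᵁ W' w.1 w.2)
    (top_le_iff.mp fun w _ => Opens.mem_iSup.mpr ⟨w, hw w.1 w.2⟩)
  refine 𝒰.hom_ext _ _ fun w => ?_
  have h1 : (W.ι ⁻¹ᵁ W' w.1 w.2).ι = (W.ι.resLE (W' w.1 w.2) (W.ι ⁻¹ᵁ W' w.1 w.2) le_rfl) ≫
      X.homOfLE (hW w.1 w.2) := by
    rw [← cancel_mono W.ι, Category.assoc, Scheme.homOfLE_ι, Scheme.Hom.resLE_comp_ι]
  show (W.ι ⁻¹ᵁ W' w.1 w.2).ι ≫ a = (W.ι ⁻¹ᵁ W' w.1 w.2).ι ≫ b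
  rw [h1, Category.assoc, Category.assoc, heq]

include hE hP in
/-- Chart maps of one quotient agree on overlaps. -/
theorem chartMap_agree {U U' : Y.Opens} (hU : IsAffineOpen U) (hU' : IsAffineOpen U') (e : Γ(E, U))
    (e' : Γ(E, U')) {W : X.Opens} (h : W ≤ g ⁻¹ᵁ U) (h' : W ≤ g ⁻¹ᵁ U')
    (he : InvX.IsFrame (sec g σ h e)) (he' : InvX.IsFrame (sec g σ h' e'))
    {κ : CR j hU e →+* Γ(X, W)} (hκ : IsKappa σ hj hU e h κ)
    {κ' : CR j hU' e' →+* Γ(X, W)} (hκ' : IsKappa σ hj hU' e' h' κ') :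
    chartMap chart hj hU e κ = chartMap chart hj hU' e' κ' := by
  refine hom_ext_locally _ _ fun w hw => ?_
  obtain ⟨r, r', hrr, hwr⟩ := exists_basicOpen_le_affine_inter hU hU' (g w) ⟨h hw, h' hw⟩
  set D := Y.basicOpen r with hD'
  have hD : IsAffineOpen D := hU.basicOpen r
  have iU : D ≤ U := Y.basicOpen_le r
  have iU' : D ≤ U' := hrr ▸ Y.basicOpen_le r'
  refine ⟨W ⊓ g ⁻¹ᵁ D, inf_le_left, ⟨hw, hwr⟩, ?_⟩
  set W' := W ⊓ g ⁻¹ᵁ D with hW'
  have hle : W' ≤ W := inf_le_left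
  have hD2 : W' ≤ g ⁻¹ᵁ D := inf_le_right
  have heW := he.res hle
  rw [res_sec] at heW
  have heW' := he'.res hle
  rw [res_sec] at heW'
  have heD : InvX.IsFrame (sec g σ hD2 (res E iU e)) := by rw [sec_res]; exact heW
  have heD' : InvX.IsFrame (sec g σ hD2 (res E iU' e')) := by rw [sec_res]; exact heW'
  obtain ⟨k, hk⟩ := exists_isKappa hE hj hD (res E iU e) hD2 heD
  obtain ⟨k', hk'⟩ := exists_isKappa hE hj hD (res E iU' e') hD2 heD'
  rw [chartMap_res, chartMap_res]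
  refine ((chartMap_basic hE hj hP hU hD iU ⟨r, rfl⟩ e hD2 (hle.trans h) heW
    (isKappa_res hj hU e h hκ hle) hk).trans ?_).trans
    (chartMap_basic hE hj hP hU' hD iU' ⟨r', hrr.symm⟩ e' hD2 (hle.trans h') heW'
      (isKappa_res hj hU' e' h' hκ' hle) hk').symm
  exact chartMap_same hE hj hD _ _ hD2 heD heD' hk hk'

end Groth.Agent.Eg2Bundle
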