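import Groth.Agent.Eg2Sym.FundFrame
import Mathlib.AlgebraicGeometry.ProjectiveSpectrum.Basic
import Mathlib.RingTheory.GradedAlgebra.HomogeneousLocalization

/-!
# Standard charts of a projective bundle in coordinates
-/

universe u

open CategoryTheory CategoryTheory.Limits AlgebraicGeometry TopologicalSpace Opposite HomogeneousLocalization
open Groth.Agent.AModX
open scoped HomogeneousIdeal

set_option backward.isDefEq.respectTransparency false
set_option backward.isDefEq.respectTransparency.types false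

noncomputable section

namespace Groth.Agent.Eg2Bundle

open Groth.Agent.Eg2Sym

variable {Y : Scheme.{u}} {E : Y.Modules} {𝒮 : RelProj.QCGrAlg Y} {j : E ⟶ 𝒮.toModule}

/-- The degree-zero ring of the chart `D₊(j e)`. -/
abbrev CR (j : E ⟶ 𝒮.toModule) {U : Y.Opens} (hU : IsAffineOpen U) (e : Γ(E, U)) : Type u :=
  Away (𝒮.deg U hU) (jApp (A := 𝒮.toQCAlg) j U e)

lemma jApp_mem_one (hj : RelProj.IsGrSymAlg E 𝒮 j) {U : Y.Opens} (hU : IsAffineOpen U) (x : Γ(E, U)) :
    jApp (A := 𝒮.toQCAlg) j U x ∈ 𝒮.deg U hU 1 :=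
  hj.2 U hU x

section ring

variable (hj : RelProj.IsGrSymAlg E 𝒮 j) {U : Y.Opens} (hU : IsAffineOpen U) (e : Γ(E, U))

/-- `j x / j e`. -/
def gen1 (x : Γ(E, U)) : CR j hU e :=
  Away.mk (𝒮.deg U hU) (jApp_mem_one hj hU e) 1 (jApp (A := 𝒮.toQCAlg) j U x)
    (by rw [one_smul]; exact jApp_mem_one hj hU x)

/-- A constant. -/
def cst (r : Γ(Y, U)) : CR j hU e :=
  Away.mk (𝒮.deg U hU) (jApp_mem_one hj hU e) 0 ((𝒮.str.app (op U)).hom r)
    (by rw [zero_smul]; exact 𝒮.str_mem U hU r)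

lemma gen1_self : gen1 hj hU e e = 1 := by
  refine val_injective _ ?_
  rw [gen1, Away.val_mk, HomogeneousLocalization.val_one, ← Localization.mk_one]
  exact Localization.mk_eq_mk_iff.mpr (Localization.r_of_eq (by simp))

lemma gen1_smul_self (r : Γ(Y, U)) : gen1 hj hU e (r • e) = cst hj hU e r := by
  refine val_injective _ ?_
  rw [gen1, cst, Away.val_mk, Away.val_mk, jApp_smul]
  exact Localization.mk_eq_mk_iff.mpr (Localization.r_of_eq (by simp [mul_comm]))

/-- Homomorphisms out of a chart ring are determined by constants and the `j x / j e`. -/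
theorem cr_hom_ext (hE : Coh.IsQCoh E) {R : Type*} [CommRing R] (g g' : CR j hU e →+* R)
    (h0 : ∀ r, g (cst hj hU e r) = g' (cst hj hU e r))
    (h1 : ∀ x, g (gen1 hj hU e x) = g' (gen1 hj hU e x)) : g = g' := by
  have key : ∀ (n : ℕ) (a : 𝒮.presheaf.obj (op U)), a ∈ deg (A := 𝒮.toQCAlg) j U n →
      ∀ ha : a ∈ 𝒮.deg U hU (n • 1), g (Away.mk _ (jApp_mem_one hj hU e) n a ha) = g' (Away.mk _ (jApp_mem_one hj hU e) n a ha) := by
    intro n
    induction n with
    | zero =>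
      intro a ha ha'
      obtain ⟨r, rfl⟩ := (mem_powSub_zero _ _ _).mp ha
      exact h0 r
    | succ n ih =>
      intro a ha
      refine (powSub_succ_induction _ _ _ (P := fun a => a ∈ 𝒮.deg U hU ((n + 1) • 1) ∧
          ∀ ha' : a ∈ 𝒮.deg U hU ((n + 1) • 1),
            g (Away.mk _ (jApp_mem_one hj hU e) (n + 1) a ha') = g' (Away.mk _ (jApp_mem_one hj hU e) (n + 1) a ha'))
        ha (fun b hb x => ?_) (fun b c hb hc => ?_)).2
      · have hb' : b ∈ 𝒮.deg U hU (n • 1) := by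
          rw [deg_eq hE hj hU, smul_eq_mul, mul_one]; exact hb
        refine ⟨by
          rw [smul_eq_mul, mul_one] at hb' ⊢
          exact SetLike.mul_mem_graded hb' (jApp_mem_one hj hU x), fun ha' => ?_⟩
        have e1 : Away.mk (𝒮.deg U hU) (jApp_mem_one hj hU e) (n + 1) (b * jApp (A := 𝒮.toQCAlg) j U x) ha' =
            Away.mk (𝒮.deg U hU) (jApp_mem_one hj hU e) n b hb' * gen1 hj hU e x := by
          refine val_injective _ ?_
          rw [val_mul, gen1, Away.val_mk, Away.val_mk, Away.val_mk, Localization.mk_mul]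
          exact Localization.mk_eq_mk_iff.mpr (Localization.r_of_eq (by simp [pow_succ, mul_comm]))
        rw [e1, map_mul, map_mul, ih b hb hb', h1]
      · refine ⟨AddSubgroup.add_mem _ hb.1 hc.1, fun ha' => ?_⟩
        have e1 : Away.mk (𝒮.deg U hU) (jApp_mem_one hj hU e) (n + 1) (b + c) ha' =
            Away.mk (𝒮.deg U hU) (jApp_mem_one hj hU e) (n + 1) b hb.1 +
              Away.mk (𝒮.deg U hU) (jApp_mem_one hj hU e) (n + 1) c hc.1 := by
          refine val_injective _ ?_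
          rw [val_add, Away.val_mk, Away.val_mk, Away.val_mk, Localization.add_mk_self]
        rw [e1, map_add, map_add, hb.2, hc.2]
  refine RingHom.ext fun a => ?_
  obtain ⟨n, b, hb, rfl⟩ := a.mk_surjective (𝒮.deg U hU) (jApp_mem_one hj hU e)
  refine key n b ?_ hb
  have h := hb
  rw [deg_eq hE hj hU, smul_eq_mul, mul_one] at h
  exact h

end ring

section geom

variable {P : Scheme.{u}} {p : P ⟶ Y}
  {chart : ∀ (U : Y.Opens) (hU : IsAffineOpen U), ((p ⁻¹ᵁ U : P.Opens) : Scheme.{u}) ≅ Proj (𝒮.deg U hU)}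
  (hj : RelProj.IsGrSymAlg E 𝒮 j) {U : Y.Opens} (hU : IsAffineOpen U) (e : Γ(E, U))

variable (chart) in
/-- The chart ring as sections over `genOpen`. -/
def theta : CR j hU e →+* Γ(P, genOpen j chart hU e) :=
  (Proj.awayToSection (𝒮.deg U hU) (jApp (A := 𝒮.toQCAlg) j U e) ≫
    ((RelProj.emb p chart U hU).appIso (Proj.basicOpen _ (jApp (A := 𝒮.toQCAlg) j U e))).inv).hom

variable (chart) in
/-- The chart `Spec` of the degree-zero ring into the bundle. -/
def jmor : Spec (CommRingCat.of (CR j hU e)) ⟶ P :=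
  Proj.awayι (𝒮.deg U hU) _ (jApp_mem_one hj hU e) one_pos ≫ RelProj.emb p chart U hU

theorem toSpecΓ_theta :
    (genOpen j chart hU e).toSpecΓ ≫ Spec.map (CommRingCat.ofHom (theta chart hU e)) ≫ jmor chart hj hU e =
      (genOpen j chart hU e).ι := by
  set em := RelProj.emb p chart U hU
  set D := Proj.basicOpen (𝒮.deg U hU) (jApp (A := 𝒮.toQCAlg) j U e)
  set G := genOpen j chart hU e
  have hle : D ≤ em ⁻¹ᵁ G := (em.preimage_image_eq D).ge
  have hr : Set.range (D.ι ≫ em) = Set.range G.ι := by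
    rw [Scheme.Opens.range_ι]
    show Set.range (em ∘ D.ι) = (em ''ᵁ D : Set P)
    rw [Set.range_comp, Scheme.Opens.range_ι, Scheme.Hom.coe_image]
  let i := IsOpenImmersion.isoOfRangeEq (D.ι ≫ em) G.ι hr
  have hi : i.hom = em.resLE G D hle := by
    rw [← cancel_mono G.ι, IsOpenImmersion.isoOfRangeEq_hom_fac, Scheme.Hom.resLE_comp_ι]
  rw [← cancel_epi i.hom, hi, ← Category.assoc, ← Scheme.Opens.toSpecΓ_SpecMap_appLE, Category.assoc,
    ← Spec.map_comp_assoc, Scheme.Hom.resLE_comp_ι]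
  have h1 : CommRingCat.ofHom (theta chart hU e) ≫ em.appLE G D hle =
      Proj.awayToSection (𝒮.deg U hU) (jApp (A := 𝒮.toQCAlg) j U e) := by
    show (Proj.awayToSection _ _ ≫ (em.appIso D).inv) ≫ em.appLE G D hle = _
    rw [Category.assoc, show em.appLE G D hle = (em.appIso D).hom from (em.appIso_hom' D).symm,
      Iso.inv_hom_id, Category.comp_id]
  rw [h1, jmor, ← Category.assoc, ← Category.assoc, Category.assoc (D.toSpecΓ)]
  congr 1
  show Proj.basicOpenToSpec _ _ ≫ Proj.awayι _ _ _ _ = D.ι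
  rw [Proj.awayι, ← Proj.basicOpenIsoSpec_hom _ _ (jApp_mem_one hj hU e) one_pos, Iso.hom_inv_id_assoc]

variable (chart) in
/-- The morphism attached to a point of the chart ring. -/
def chartMap {X : Scheme.{u}} {V : X.Opens} (κ : CR j hU e →+* Γ(X, V)) : V.toScheme ⟶ P :=
  V.toSpecΓ ≫ Spec.map (CommRingCat.ofHom κ) ≫ jmor chart hj hU e

variable {X : Scheme.{u}}

theorem chartMap_res {V W : X.Opens} (h : W ≤ V) (κ : CR j hU e →+* Γ(X, V)) :
    X.homOfLE h ≫ chartMap chart hj hU e κ =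
      chartMap chart hj hU e ((X.presheaf.map (homOfLE h).op).hom.comp κ) := by
  rw [chartMap, chartMap, ← Scheme.Opens.toSpecΓ_SpecMap_presheaf_map_assoc, ← Spec.map_comp_assoc]
  rfl

/-- A morphism landing in a chart is a chart map. -/
theorem ι_comp_eq_chartMap (r : X ⟶ P) {V : X.Opens} (hV : V ≤ r ⁻¹ᵁ genOpen j chart hU e) :
    V.ι ≫ r = chartMap chart hj hU e
      ((r.appLE (genOpen j chart hU e) V hV).hom.comp (theta chart hU e)) := by
  rw [chartMap, CommRingCat.ofHom_comp, Spec.map_comp, CommRingCat.ofHom_hom, Category.assoc,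
    ← Category.assoc, Scheme.Opens.toSpecΓ_SpecMap_appLE, Category.assoc, toSpecΓ_theta hj hU e,
    Scheme.Hom.resLE_comp_ι]

theorem chartMap_injective {V : X.Opens} {κ κ' : CR j hU e →+* Γ(X, V)}
    (h : chartMap chart hj hU e κ = chartMap chart hj hU e κ') : κ = κ' := by
  rw [chartMap, chartMap, ← Category.assoc, ← Category.assoc] at h
  have : Mono (jmor chart hj hU e) := by unfold jmor; infer_instance
  have h2 := (cancel_mono (jmor chart hj hU e)).mp h
  have h3 := congrArg (fun m : V.toScheme ⟶ Spec (CommRingCat.of (CR j hU e)) =>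
    (Scheme.ΓSpecIso _).inv ≫ m.appTop ≫ V.topIso.hom) h2
  simp only [Scheme.Hom.comp_appTop, Scheme.Opens.toSpecΓ_appTop, Category.assoc, Iso.inv_hom_id,
    Category.comp_id, Scheme.ΓSpecIso_naturality,
    Iso.inv_hom_id_assoc] at h3
  exact congrArg CommRingCat.Hom.hom h3

theorem chartMap_mem_genOpen_iff {V : X.Opens} (κ : CR j hU e →+* Γ(X, V)) (e' : Γ(E, U)) (x : V) :
    chartMap chart hj hU e κ x ∈ genOpen j chart hU e' ↔ x.1 ∈ X.basicOpen (κ (gen1 hj hU e e')) := by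
  have h1 : (RelProj.emb p chart U hU) ⁻¹ᵁ genOpen j chart hU e' =
      Proj.basicOpen (𝒮.deg U hU) (jApp (A := 𝒮.toQCAlg) j U e') :=
    (RelProj.emb p chart U hU).preimage_image_eq _
  have h2 : Away.isLocalizationElem (jApp_mem_one hj hU e) (jApp_mem_one hj hU e') = gen1 hj hU e e' := by
    refine val_injective _ ?_
    show (Away.mk (𝒮.deg U hU) (jApp_mem_one hj hU e) 1 _ _).val = _
    rw [gen1, Away.val_mk, Away.val_mk]
    simp
  show x ∈ chartMap chart hj hU e κ ⁻¹ᵁ genOpen j chart hU e' ↔ _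
  rw [chartMap, jmor, Scheme.Hom.comp_preimage, Scheme.Hom.comp_preimage, Scheme.Hom.comp_preimage, h1,
    Proj.awayι_preimage_basicOpen (𝒮.deg U hU) (jApp_mem_one hj hU e) one_pos (jApp_mem_one hj hU e') one_pos, h2]
  rw [show (Spec.map (CommRingCat.ofHom κ)) ⁻¹ᵁ PrimeSpectrum.basicOpen (gen1 hj hU e e') =
    PrimeSpectrum.basicOpen (κ (gen1 hj hU e e')) from rfl, Scheme.Opens.toSpecΓ_preimage_basicOpen]
  exact Iff.rfl

theorem chartMap_proj (hP : RelProj.IsRelProj 𝒮 p chart) (g : X ⟶ Y) {V : X.Opens} (hV : V ≤ g ⁻¹ᵁ U)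
    (κ : CR j hU e →+* Γ(X, V)) (hκ : ∀ r, κ (cst hj hU e r) = (g.appLE U V hV).hom r) :
    chartMap chart hj hU e κ ≫ p = V.ι ≫ g := by
  rw [chartMap, jmor, Category.assoc, Category.assoc, Category.assoc, EgaQ.emb_π hP U hU,
    Proj.awayι_toSpecZero_assoc, ← Spec.map_comp_assoc, ← Spec.map_comp_assoc]
  have h : (𝒮.strZero U hU ≫ CommRingCat.ofHom (fromZeroRingHom (𝒮.deg U hU) _)) ≫ CommRingCat.ofHom κ =
      g.appLE U V hV := by
    refine CommRingCat.hom_ext (RingHom.ext fun r => ?_)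
    refine Eq.trans ?_ (hκ r)
    show κ _ = κ _
    refine congrArg κ (val_injective _ ?_)
    rw [cst, Away.val_mk]
    show (fromZeroRingHom (𝒮.deg U hU) _ ⟨(𝒮.str.app (op U)).hom r, 𝒮.str_mem U hU r⟩).val = _
    rw [fromZeroRingHom]
    simp
  rw [Category.assoc] at h
  rw [h, ← Category.assoc, Scheme.Opens.toSpecΓ_SpecMap_appLE, Category.assoc,
    hU.toSpecΓ_fromSpec, Scheme.Hom.resLE_comp_ι]

set_option maxHeartbeats 1600000 in
/-- In a chart every section of `E` is a multiple of the chosen one. -/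
theorem phi_coord {O1 : P.Modules}
    {lam : ∀ (U : Y.Opens) (hU : IsAffineOpen U),
      O1 ⟶ (Scheme.Modules.pushforward (RelProj.emb p chart U hU)).obj (GrTwist.twist (𝒮.deg U hU) 1)}
    (hO1 : RelProj.IsRelTwist 𝒮 p chart 1 O1 lam)
    (φ : E ⟶ (Scheme.Modules.pushforward p).obj O1)
    (hφ : ∀ (U : Y.Opens) (hU : IsAffineOpen U) (e : Γ(E, U))
      (y : ↥(RelProj.emb p chart U hU ⁻¹ᵁ (p ⁻¹ᵁ U))),
      GrTwist.val (V := RelProj.emb p chart U hU ⁻¹ᵁ (p ⁻¹ᵁ U))
          ((lam U hU).app (p ⁻¹ᵁ U) ((φ.app U) e)) y =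
        algebraMap (𝒮.presheaf.obj (op U)) (GrTwist.Loc (𝒮.deg U hU) y.1)
          ((j.app U) e : 𝒮.presheaf.obj (op U)))
    (x : Γ(E, U)) :
    res O1 (genOpen_le (j := j) (chart := chart) hU e) (show Γ(O1, p ⁻¹ᵁ U) from φ.app U x) =
      theta chart hU e (gen1 hj hU e x) •
        res O1 (genOpen_le (j := j) (chart := chart) hU e) (show Γ(O1, p ⁻¹ᵁ U) from φ.app U e) := by
  set f : 𝒮.presheaf.obj (op U) := jApp (A := 𝒮.toQCAlg) j U e with hf
  refine (hO1.bijective U hU _ (genOpen_le (j := j) (chart := chart) hU e)).1 ?_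
  refine Subtype.ext (funext fun y => Subtype.ext ?_)
  obtain ⟨y, hy⟩ := y
  have hy' : y ∈ Proj.basicOpen (𝒮.deg U hU) f := by
    have h := hy
    change (RelProj.emb p chart U hU).base y ∈
      (RelProj.emb p chart U hU ''ᵁ Proj.basicOpen (𝒮.deg U hU) f : Set P) at h
    rw [Scheme.Hom.coe_image, (RelProj.emb p chart U hU).isOpenEmbedding.injective.mem_set_image] at h
    exact h
  show GrTwist.val (V := RelProj.emb p chart U hU ⁻¹ᵁ genOpen j chart hU e)
      ((lam U hU).app (genOpen j chart hU e) _) ⟨y, hy⟩ =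
    GrTwist.val (V := RelProj.emb p chart U hU ⁻¹ᵁ genOpen j chart hU e)
      ((lam U hU).app (genOpen j chart hU e) _) ⟨y, hy⟩
  rw [Scheme.Modules.Hom.app_smul]
  rw [Eg2Rel.val_app_res hU (lam U hU) (genOpen_le (j := j) (chart := chart) hU e)]
  refine Eq.trans (hφ U hU x ⟨y, _⟩) ?_
  let t := (lam U hU).app (genOpen j chart hU e)
    (res O1 (genOpen_le (j := j) (chart := chart) hU e) (show Γ(O1, p ⁻¹ᵁ U) from φ.app U e))
  have e1 : GrTwist.val (V := RelProj.emb p chart U hU ⁻¹ᵁ genOpen j chart hU e) t ⟨y, hy⟩ =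
      algebraMap _ _ f := by
    rw [show t = (lam U hU).app (genOpen j chart hU e)
      (res O1 (genOpen_le (j := j) (chart := chart) hU e) (show Γ(O1, p ⁻¹ᵁ U) from φ.app U e)) from rfl,
      Eg2Rel.val_app_res hU (lam U hU) (genOpen_le (j := j) (chart := chart) hU e)]
    exact hφ U hU e ⟨y, _⟩
  refine Eq.trans ?_ (GrTwist.coe_smul_val 1 y _ _).symm
  have e2 : (RelProj.emb p chart U hU).app (genOpen j chart hU e) (theta chart hU e (gen1 hj hU e x)) =
      (Proj (𝒮.deg U hU)).presheaf.map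
        (eqToHom ((RelProj.emb p chart U hU).preimage_image_eq (Proj.basicOpen (𝒮.deg U hU) f))).op
        (Proj.awayToSection (𝒮.deg U hU) f (gen1 hj hU e x)) :=
    congr($((RelProj.emb p chart U hU).appIso_inv_app (Proj.basicOpen (𝒮.deg U hU) f))
      (Proj.awayToSection (𝒮.deg U hU) f (gen1 hj hU e x)))
  have e3 : (((RelProj.emb p chart U hU).app (genOpen j chart hU e)
      (theta chart hU e (gen1 hj hU e x))).1 ⟨y, hy⟩).val =
      Localization.mk (jApp (A := 𝒮.toQCAlg) j U x) ⟨f, hy'⟩ := by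
    rw [e2]
    show ((Proj.awayToSection (𝒮.deg U hU) f (gen1 hj hU e x)).1 ⟨y, hy'⟩).val = _
    refine (ProjectiveSpectrum.Proj.awayToSection_apply (𝒮.deg U hU) f (gen1 hj hU e x) ⟨y, hy'⟩).trans ?_
    rw [gen1, Away.val_mk, Localization.mk_eq_mk', IsLocalization.map_mk', ← Localization.mk_eq_mk']
    exact Localization.mk_eq_mk_iff.mpr (Localization.r_of_eq (by simp [hf]))
  refine Eq.trans ?_ (congrArg₂ (fun a b : GrTwist.Loc (𝒮.deg U hU) y => a * b) e3 e1).symm
  show algebraMap (𝒮.presheaf.obj (op U)) (GrTwist.Loc (𝒮.deg U hU) y) (jApp (A := 𝒮.toQCAlg) j U x) =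
    Localization.mk (jApp (A := 𝒮.toQCAlg) j U x) ⟨f, hy'⟩ *
      algebraMap (𝒮.presheaf.obj (op U)) (GrTwist.Loc (𝒮.deg U hU) y) f
  rw [← Localization.mk_one_eq_algebraMap, ← Localization.mk_one_eq_algebraMap, Localization.mk_mul]
  exact Localization.mk_eq_mk_iff.mpr (Localization.r_of_eq (by simp [mul_comm]))

end geom

end Groth.Agent.Eg2Bundle
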