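import Groth.Agent.Eg2Bundle.Kappa
import Groth.Agent.QCoh.PullbackBC
import Groth.Agent.QCoh.Support
import Groth.Agent.ProjUPX.Affine

/-!
# An invertible quotient of `g^* E` is framed by sections of `E`
-/

universe u

open CategoryTheory CategoryTheory.Limits AlgebraicGeometry TopologicalSpace Opposite
open Groth.Agent.AModX

set_option backward.isDefEq.respectTransparency false
set_option backward.isDefEq.respectTransparency.types false

noncomputable section

namespace Groth.Agent.Eg2Bundle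

variable {Y X : Scheme.{u}} {E : Y.Modules} {g : X ⟶ Y} {L : X.Modules}

/-- The adjoint of a map out of `g^* E`, on sections. -/
lemma sec_homEquiv (s : (Scheme.Modules.pullback g).obj E ⟶ L) {U : Y.Opens} {V : X.Opens}
    (h : V ≤ g ⁻¹ᵁ U) (x : Γ(E, U)) :
    sec g ((Scheme.Modules.pullbackPushforwardAdjunction g).homEquiv E L s) h x =
      s.app V (QCoh.pullSec g E h x) := by
  rw [sec, Adjunction.homEquiv_unit]
  exact (app_res s h (InvX.pullElt g x)).symm

/-- Frames given by sections of `E` exist around every point. -/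
theorem exists_sec_frame (hE : Coh.IsQCoh E) (hL : PicF.IsInvertible L)
    (s : (Scheme.Modules.pullback g).obj E ⟶ L) [Epi s] (x : X) :
    ∃ (U : Y.Opens) (_ : IsAffineOpen U) (e : Γ(E, U)) (V : X.Opens) (h : V ≤ g ⁻¹ᵁ U), x ∈ V ∧
      InvX.IsFrame (sec g ((Scheme.Modules.pullbackPushforwardAdjunction g).homEquiv E L s) h e) := by
  obtain ⟨V₀, hxV₀, ℓ, hℓ⟩ := InvX.exists_frame hL x
  obtain ⟨U, hU, hxU, -⟩ := exists_isAffineOpen_mem_and_subset (U := (⊤ : Y.Opens)) (x := g.base x) (Opens.mem_top _)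
  obtain ⟨W, hW, hxW, hle⟩ := exists_isAffineOpen_mem_and_subset (U := V₀ ⊓ g ⁻¹ᵁ U) (x := x) ⟨hxV₀, hxU⟩
  have hWV : W ≤ V₀ := hle.trans inf_le_left
  have hWU : W ≤ g ⁻¹ᵁ U := hle.trans inf_le_right
  have hm := hℓ.res hWV
  set m := res L hWV ℓ with hm'
  set σ := (Scheme.Modules.pullbackPushforwardAdjunction g).homEquiv E L s
  have hc : ∀ e : Γ(E, U), ∃ c : Γ(X, W), sec g σ hWU e = c • m := fun e => by
    obtain ⟨c, hc⟩ := hm.exists_coord le_rfl (sec g σ hWU e)
    exact ⟨c, hc.trans (by rw [res_self])⟩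
  choose c hc using hc
  have huniq : ∀ {a b : Γ(X, W)}, a • m = b • m → a = b := fun {a b} hab =>
    hm.coord_unique le_rfl (by rw [res_self]; exact hab)
  let J : Ideal Γ(X, W) := Ideal.span (Set.range c)
  have key : ∀ z : Γ((Scheme.Modules.pullback g).obj E, W), ∀ a : Γ(X, W), s.app W z = a • m → a ∈ J := by
    let : Algebra Γ(Y, U) Γ(X, W) := (g.appLE U W hWU).hom.toAlgebra
    let : Module Γ(Y, U) Γ((Scheme.Modules.pullback g).obj E, W) :=
      Module.compHom _ (algebraMap Γ(Y, U) Γ(X, W))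
    have : IsScalarTower Γ(Y, U) Γ(X, W) Γ((Scheme.Modules.pullback g).obj E, W) :=
      .of_algebraMap_smul fun _ _ => rfl
    let l : Γ(E, U) →ₗ[Γ(Y, U)] Γ((Scheme.Modules.pullback g).obj E, W) :=
      { toFun := QCoh.pullSec g E hWU
        map_add' := QCoh.pullSec_add g E hWU
        map_smul' := fun r x => QCoh.pullSec_smul g E hWU r x }
    intro z
    refine (QCoh.isBaseChange_pullback hU g hW hE hWU (fun _ => rfl) l fun _ => rfl).inductionOn z
      (fun z => ∀ a : Γ(X, W), s.app W z = a • m → a ∈ J) ?_ ?_ ?_ ?_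
    · intro a ha
      rw [map_zero] at ha
      rw [huniq (a := a) (b := 0) (by rw [zero_smul, ← ha])]
      exact J.zero_mem
    · intro e a ha
      have : a = c e := huniq (by rw [← hc, sec_homEquiv]; exact ha.symm)
      exact this ▸ Ideal.subset_span ⟨e, rfl⟩
    · intro r z hz a ha
      obtain ⟨b, hb⟩ := hm.exists_coord le_rfl (s.app W z)
      rw [res_self] at hb
      rw [huniq (a := a) (b := r * b) (by rw [← ha, mul_smul, ← hb]; exact s.app_smul r z)]
      exact J.mul_mem_left r (hz b hb)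
    · intro z z' hz hz' a ha
      obtain ⟨b, hb⟩ := hm.exists_coord le_rfl (s.app W z)
      obtain ⟨b', hb'⟩ := hm.exists_coord le_rfl (s.app W z')
      rw [res_self] at hb hb'
      rw [huniq (a := a) (b := b + b') (by rw [← ha, add_smul, ← hb, ← hb', map_add])]
      exact J.add_mem (hz b hb) (hz' b' hb')
  obtain ⟨z, hz⟩ := QCoh.app_surjective_of_epi (QCoh.isQCoh_pullback g hE)
    (ProjUPX.isQCoh_of_isInvertible hL) s hW m
  have h1 : (1 : Γ(X, W)) ∈ J := key z 1 (by rw [one_smul]; exact hz)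
  obtain ⟨e, he⟩ : ∃ e, x ∈ X.basicOpen (c e) := by
    by_contra! H
    have hJ : J ≤ Ideal.comap (X.presheaf.germ W x hxW).hom (IsLocalRing.maximalIdeal _) :=
      Ideal.span_le.mpr (by
        rintro _ ⟨e, rfl⟩
        exact fun hu => H e ((X.mem_basicOpen (c e) x hxW).2 hu))
    have h2 := hJ h1
    rw [Ideal.mem_comap, map_one] at h2
    exact (IsLocalRing.maximalIdeal.isMaximal _).ne_top ((Ideal.eq_top_iff_one _).2 h2)
  refine ⟨U, hU, e, X.basicOpen (c e), (X.basicOpen_le _).trans hWU, he, ?_⟩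
  rw [← res_sec g σ hWU (X.basicOpen_le _), hc, res_smul]
  exact (hm.res _).isUnit_smul (isUnit_resR _ _ le_rfl)

end Groth.Agent.Eg2Bundle
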