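import Groth.Agent.Eg2Sym.Graded
import Groth.Agent.Proj16.RelExist
import Groth.Agent.Proj16.RelMap

/-!
# Graded homomorphisms out of symmetric algebras and the morphisms of `Proj` they give
-/

universe u

open CategoryTheory CategoryTheory.Limits AlgebraicGeometry TopologicalSpace Opposite HomogeneousLocalization
open scoped HomogeneousIdeal

set_option backward.isDefEq.respectTransparency false
set_option backward.isDefEq.respectTransparency.types false

noncomputable section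

namespace Groth.Agent.Eg2Bundle

open Groth.Agent.Eg2Sym

variable {Y : Scheme.{u}} {E : Y.Modules} {𝒮 𝒯 : RelProj.QCGrAlg Y} {j : E ⟶ 𝒮.toModule}
  (hE : Coh.IsQCoh E) (hj : RelProj.IsGrSymAlg E 𝒮 j) {U : Y.Opens} {hU : IsAffineOpen U}

include hE hj in
theorem gradedHom_ext {φ φ' : 𝒮.deg U hU →+*ᵍ 𝒯.deg U hU}
    (h0 : ∀ r, φ ((𝒮.str.app (op U)).hom r) = φ' ((𝒮.str.app (op U)).hom r))
    (h1 : ∀ x, φ (jApp (A := 𝒮.toQCAlg) j U x) = φ' (jApp (A := 𝒮.toQCAlg) j U x)) : φ = φ' := by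
  have h := (isAffSymAt_gr hE hj hU).ext (R := 𝒯.presheaf.obj (op U)) (CommRingCat.ofHom φ.toRingHom)
    (CommRingCat.ofHom φ'.toRingHom) h0 h1
  ext a
  exact congr($(h).hom a)

include hE hj in
theorem gradedHom_ext' {V : Y.Opens} {hV : IsAffineOpen V} {φ φ' : 𝒮.deg U hU →+*ᵍ 𝒯.deg V hV}
    (h0 : ∀ r, φ ((𝒮.str.app (op U)).hom r) = φ' ((𝒮.str.app (op U)).hom r))
    (h1 : ∀ x, φ (jApp (A := 𝒮.toQCAlg) j U x) = φ' (jApp (A := 𝒮.toQCAlg) j U x)) : φ = φ' := by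
  have h := (isAffSymAt_gr hE hj hU).ext (R := 𝒯.presheaf.obj (op V)) (CommRingCat.ofHom φ.toRingHom)
    (CommRingCat.ofHom φ'.toRingHom) h0 h1
  ext a
  exact congr($(h).hom a)

variable (hU) in
include hE hj in
/-- A semilinear map into degree one extends to a graded homomorphism. -/
theorem exists_gradedHom (f : Γ(E, U) →+ 𝒯.presheaf.obj (op U))
    (hf : ∀ r x, f (r • x) = (𝒯.str.app (op U)).hom r * f x) (hf1 : ∀ x, f x ∈ 𝒯.deg U hU 1) :
    ∃ φ : 𝒮.deg U hU →+*ᵍ 𝒯.deg U hU,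
      (∀ r, φ ((𝒮.str.app (op U)).hom r) = (𝒯.str.app (op U)).hom r) ∧
      ∀ x, φ (jApp (A := 𝒮.toQCAlg) j U x) = f x := by
  obtain ⟨G, h0, h1⟩ := (isAffSymAt_gr hE hj hU).exists_lift (R := 𝒯.presheaf.obj (op U))
    (𝒯.str.app (op U)).hom f hf
  have key : ∀ (d : ℕ) (a : 𝒮.presheaf.obj (op U)), a ∈ deg (A := 𝒮.toQCAlg) j U d →
      G.hom a ∈ 𝒯.deg U hU d := by
    intro d
    induction d with
    | zero =>
      intro a ha
      obtain ⟨r, rfl⟩ := (mem_powSub_zero _ _ _).mp ha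
      rw [h0]
      exact 𝒯.str_mem U hU r
    | succ d ih =>
      intro a ha
      refine powSub_succ_induction _ _ _ (P := fun a => G.hom a ∈ 𝒯.deg U hU (d + 1)) ha
        (fun b hb x => ?_) (fun b c hb hc => ?_)
      · show G.hom _ ∈ _
        rw [map_mul, h1]
        exact SetLike.mul_mem_graded (ih b hb) (hf1 x)
      · show G.hom _ ∈ _
        rw [map_add]
        exact AddSubgroup.add_mem _ hb hc
  refine ⟨{ G.hom with map_mem := ?_ }, h0, h1⟩
  intro d a ha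
  exact key d a (by rw [← deg_eq hE hj hU]; exact ha)

/-- The irrelevant ideal goes onto the irrelevant ideal under a surjection. -/
theorem irrelevant_le_of_rightInverse (φ : 𝒮.deg U hU →+*ᵍ 𝒯.deg U hU) (ψ : 𝒯.deg U hU →+*ᵍ 𝒮.deg U hU)
    (h : ∀ a, φ (ψ a) = a) : (𝒯.deg U hU)₊ ≤ ((𝒮.deg U hU)₊).map φ := by
  intro a ha
  have h1 : ψ a ∈ (𝒮.deg U hU)₊ := by
    rw [HomogeneousIdeal.mem_irrelevant_iff, GradedRing.proj_apply, ← GradedRingHom.map_directSumDecompose]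
    rw [HomogeneousIdeal.mem_irrelevant_iff, GradedRing.proj_apply] at ha
    rw [ha, map_zero]
  rw [← h a]
  exact Ideal.mem_map_of_mem _ h1

include hE hj in
/-- Rescaling degree one by a unit does not change the morphism of `Proj`. -/
theorem proj_map_eq_of_scale (φ φ' : 𝒮.deg U hU →+*ᵍ 𝒯.deg U hU) (c : Γ(Y, U)) (hc : IsUnit c)
    (h0 : ∀ r, φ ((𝒮.str.app (op U)).hom r) = (𝒯.str.app (op U)).hom r)
    (h0' : ∀ r, φ' ((𝒮.str.app (op U)).hom r) = (𝒯.str.app (op U)).hom r)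
    (h1 : ∀ x, φ' (jApp (A := 𝒮.toQCAlg) j U x) = (𝒯.str.app (op U)).hom c * φ (jApp (A := 𝒮.toQCAlg) j U x))
    (hφ : (𝒯.deg U hU)₊ ≤ ((𝒮.deg U hU)₊).map φ) (hφ' : (𝒯.deg U hU)₊ ≤ ((𝒮.deg U hU)₊).map φ') :
    Proj.map φ hφ = Proj.map φ' hφ' := by
  set e := (𝒯.str.app (op U)).hom c with he
  obtain ⟨c', hcc⟩ := hc.exists_right_inv
  set e' := (𝒯.str.app (op U)).hom c' with he'
  have hee : e * e' = 1 := by rw [he, he', ← map_mul, hcc, map_one]
  have he0 : e ∈ 𝒯.deg U hU 0 := 𝒯.str_mem U hU c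
  have he0' : e' ∈ 𝒯.deg U hU 0 := 𝒯.str_mem U hU c'
  have hscale : ∀ (d : ℕ) (a : 𝒮.presheaf.obj (op U)), a ∈ deg (A := 𝒮.toQCAlg) j U d →
      φ' a = e ^ d * φ a := by
    intro d
    induction d with
    | zero =>
      intro a ha
      obtain ⟨r, rfl⟩ := (mem_powSub_zero _ _ _).mp ha
      rw [h0, h0', pow_zero, one_mul]
    | succ d ih =>
      intro a ha
      refine powSub_succ_induction _ _ _ (P := fun a => φ' a = e ^ (d + 1) * φ a) ha
        (fun b hb x => ?_) (fun b b' hb hb' => ?_)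
      · show φ' _ = _
        rw [map_mul, map_mul, ih b hb, h1]
        ring
      · show φ' _ = _
        rw [map_add, map_add, hb, hb', mul_add]
  have hspan : ((𝒯.deg U hU)₊).toIdeal ≤
      Ideal.span (Set.range fun x => φ (jApp (A := 𝒮.toQCAlg) j U x)) := by
    refine le_trans hφ ?_
    show Ideal.map φ ((𝒮.deg U hU)₊).toIdeal ≤ _
    rw [irrelevant_eq_span hE hj hU, Ideal.map_span]
    refine Ideal.span_mono ?_
    rintro _ ⟨_, ⟨x, rfl⟩, rfl⟩
    exact ⟨x, rfl⟩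
  refine (Proj.affineOpenCoverOfIrrelevantLESpan (𝒯.deg U hU) (m := fun _ => 1)
    (fun x => φ (jApp (A := 𝒮.toQCAlg) j U x)) (fun x => φ.map_mem (hj.2 U hU x)) (fun _ => one_pos)
    hspan).openCover.hom_ext _ _ fun x => ?_
  let s : 𝒮.presheaf.obj (op U) := jApp (A := 𝒮.toQCAlg) j U x
  have hs : s ∈ 𝒮.deg U hU 1 := hj.2 U hU x
  show Proj.awayι (𝒯.deg U hU) (φ s) (φ.map_mem hs) one_pos ≫ Proj.map φ hφ =
    Proj.awayι (𝒯.deg U hU) (φ s) (φ.map_mem hs) one_pos ≫ Proj.map φ' hφ'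
  have hx : φ s = φ' s * e' := by
    show φ s = φ' (jApp (A := 𝒮.toQCAlg) j U x) * e'
    rw [h1, mul_comm e, mul_assoc, hee, mul_one]
  rw [Proj.awayι_comp_map φ hφ one_pos s hs]
  conv_rhs => rw [show Proj.awayι (𝒯.deg U hU) (φ s) (φ.map_mem hs) one_pos =
    Spec.map (CommRingCat.ofHom (awayMap (𝒯.deg U hU) he0' hx)) ≫
      Proj.awayι (𝒯.deg U hU) (φ' s) (φ'.map_mem hs) one_pos from
    (Proj.SpecMap_awayMap_awayι (𝒯.deg U hU) (φ'.map_mem hs) one_pos he0' hx).symm]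
  rw [Category.assoc, Proj.awayι_comp_map φ' hφ' one_pos s hs, ← Spec.map_comp_assoc]
  congr 2
  refine CommRingCat.hom_ext (RingHom.ext fun a => ?_)
  obtain ⟨n, b, hb, rfl⟩ := a.mk_surjective (𝒮.deg U hU) hs
  show Away.map φ s (Away.mk _ hs n b hb) =
    awayMap (𝒯.deg U hU) he0' hx (Away.map φ' s (Away.mk _ hs n b hb))
  rw [Away.map_mk, Away.map_mk, awayMap_mk]
  refine val_injective _ ?_
  rw [Away.val_mk, Away.val_mk]
  refine Localization.mk_eq_mk_iff.mpr (Localization.r_of_eq ?_)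
  have hb' : b ∈ deg (A := 𝒮.toQCAlg) j U n := by
    have h := hb
    rw [deg_eq hE hj hU, smul_eq_mul, mul_one] at h
    exact h
  have hbn : φ' b * e' ^ n = φ b := by
    rw [hscale n b hb', mul_comm (e ^ n), mul_assoc, ← mul_pow, hee, one_pow, mul_one]
  simp only
  rw [hbn]

end Groth.Agent.Eg2Bundle
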