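import Groth.Agent.Eg2Bundle.Coord
import Groth.Agent.EgaQ.Rel
import Groth.Agent.InvX.GenLocusPull

/-!
# Quotients of `g^* E` as points of the charts of the projective bundle
-/

universe u

open CategoryTheory CategoryTheory.Limits AlgebraicGeometry TopologicalSpace Opposite HomogeneousLocalization
open Groth.Agent.AModX
open scoped HomogeneousIdeal

set_option backward.isDefEq.respectTransparency false
set_option backward.isDefEq.respectTransparency.types false

noncomputable section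

namespace Groth.Agent.Eg2Bundle

open Groth.Agent.Eg2Sym

variable {Y X : Scheme.{u}} {E : Y.Modules} (g : X ⟶ Y) {L : X.Modules}
  (σ : E ⟶ (Scheme.Modules.pushforward g).obj L)

/-- The section of `L` given by a section of `E`. -/
def sec {U : Y.Opens} {V : X.Opens} (h : V ≤ g ⁻¹ᵁ U) (x : Γ(E, U)) : Γ(L, V) :=
  res L h (show Γ(L, g ⁻¹ᵁ U) from σ.app U x)

lemma sec_add {U : Y.Opens} {V : X.Opens} (h : V ≤ g ⁻¹ᵁ U) (x y : Γ(E, U)) :
    sec g σ h (x + y) = sec g σ h x + sec g σ h y :=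
  (congrArg (res L h) (map_add (σ.app U).hom x y)).trans (map_add _ _ _)

lemma sec_smul {U : Y.Opens} {V : X.Opens} (h : V ≤ g ⁻¹ᵁ U) (r : Γ(Y, U)) (x : Γ(E, U)) :
    sec g σ h (r • x) = (show Γ(X, V) from (g.appLE U V h).hom r) • sec g σ h x := by
  refine (congrArg (res L h) (σ.app_smul r x)).trans ?_
  exact res_smul h (g.app U r) (show Γ(L, g ⁻¹ᵁ U) from σ.app U x)

lemma res_sec {U : Y.Opens} {V W : X.Opens} (h : V ≤ g ⁻¹ᵁ U) (h' : W ≤ V) (x : Γ(E, U)) :
    res L h' (sec g σ h x) = sec g σ (h'.trans h) x :=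
  res_res h h' _

lemma sec_res {U D : Y.Opens} {V : X.Opens} (i : D ≤ U) (h : V ≤ g ⁻¹ᵁ D) (x : Γ(E, U)) :
    sec g σ h (res E i x) = sec g σ (h.trans (g.preimage_mono i)) x := by
  refine (congrArg (res L h) (app_res σ i x)).trans ?_
  exact res_res (M := L) (g.preimage_mono i) h _

variable {g σ} {𝒮 : RelProj.QCGrAlg Y} {j : E ⟶ 𝒮.toModule}
  (hE : Coh.IsQCoh E) (hj : RelProj.IsGrSymAlg E 𝒮 j)

section ring

variable {U : Y.Opens} (hU : IsAffineOpen U) (e : Γ(E, U)) {V : X.Opens} (h : V ≤ g ⁻¹ᵁ U)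

variable (σ) in
/-- `κ` reads the quotient on the chart of `e`. -/
def IsKappa (κ : CR j hU e →+* Γ(X, V)) : Prop :=
  (∀ r, κ (cst hj hU e r) = (g.appLE U V h).hom r) ∧
    ∀ x, sec g σ h x = κ (gen1 hj hU e x) • sec g σ h e

include hE in
theorem exists_isKappa (he : InvX.IsFrame (sec g σ h e)) :
    ∃ κ : CR j hU e →+* Γ(X, V), IsKappa σ hj hU e h κ := by
  have hc : ∀ x, ∃ c : Γ(X, V), sec g σ h x = c • sec g σ h e := fun x => by
    obtain ⟨c, hc⟩ := he.exists_coord le_rfl (sec g σ h x)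
    exact ⟨c, hc.trans (by rw [res_self])⟩
  choose c hc using hc
  have huniq : ∀ {a b : Γ(X, V)}, a • sec g σ h e = b • sec g σ h e → a = b := fun {a b} hab =>
    he.coord_unique le_rfl (by rw [res_self]; exact hab)
  let f : Γ(E, U) →+ Γ(X, V) := AddMonoidHom.mk' c fun x y => huniq (by
    rw [← hc, add_smul, ← hc, ← hc, sec_add])
  obtain ⟨G, hG0, hG1⟩ := (isAffSymAt_gr hE hj hU).exists_lift (R := Γ(X, V)) (g.appLE U V h).hom f
    fun r x => huniq (by
      show c (r • x) • _ = ((g.appLE U V h).hom r * c x) • _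
      rw [← hc, sec_smul, mul_smul, ← hc])
  have hGe : G.hom (jApp (A := 𝒮.toQCAlg) j U e) = 1 :=
    (hG1 e).trans (huniq (by show c e • _ = _; rw [← hc, one_smul]))
  let G' : Localization.Away (jApp (A := 𝒮.toQCAlg) j U e) →+* Γ(X, V) :=
    IsLocalization.Away.lift (jApp (A := 𝒮.toQCAlg) j U e) (g := G.hom) (by rw [hGe]; exact isUnit_one)
  refine ⟨G'.comp (algebraMap (CR j hU e) _), fun r => ?_, fun x => ?_⟩
  · show G' (cst hj hU e r).val = _
    refine Eq.trans ?_ (hG0 r)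
    rw [show (cst hj hU e r).val = algebraMap _ _ ((𝒮.str.app (op U)).hom r) by
      rw [cst, Away.val_mk, ← Localization.mk_one_eq_algebraMap]
      exact Localization.mk_eq_mk_iff.mpr (Localization.r_of_eq (by simp))]
    exact IsLocalization.Away.lift_eq _ _ _
  · refine (hc x).trans (congrArg (· • sec g σ h e) ?_)
    show f x = G' (gen1 hj hU e x).val
    have h1 : (gen1 hj hU e x).val * algebraMap _ _ (jApp (A := 𝒮.toQCAlg) j U e) =
        algebraMap _ _ (jApp (A := 𝒮.toQCAlg) j U x) := by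
      rw [gen1, Away.val_mk, ← Localization.mk_one_eq_algebraMap, ← Localization.mk_one_eq_algebraMap,
        Localization.mk_mul]
      exact Localization.mk_eq_mk_iff.mpr (Localization.r_of_eq (by simp [mul_comm]))
    have h2 := congrArg G' h1
    rw [map_mul, IsLocalization.Away.lift_eq, IsLocalization.Away.lift_eq, hGe, mul_one] at h2
    exact ((hG1 x).symm.trans h2.symm)

include hE in
theorem isKappa_unique (he : InvX.IsFrame (sec g σ h e)) {κ κ' : CR j hU e →+* Γ(X, V)}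
    (hκ : IsKappa σ hj hU e h κ) (hκ' : IsKappa σ hj hU e h κ') : κ = κ' :=
  cr_hom_ext hj hU e hE κ κ' (fun r => (hκ.1 r).trans (hκ'.1 r).symm) fun x =>
    he.coord_unique le_rfl (by rw [res_self, ← hκ.2, ← hκ'.2])

theorem isKappa_res {κ : CR j hU e →+* Γ(X, V)} (hκ : IsKappa σ hj hU e h κ) {W : X.Opens} (h' : W ≤ V) :
    IsKappa σ hj hU e (h'.trans h) ((resR h').comp κ) := by
  refine ⟨fun r => ?_, fun x => ?_⟩
  · show resR h' (κ (cst hj hU e r)) = _
    rw [hκ.1]
    exact ConcreteCategory.congr_hom (Scheme.Hom.appLE_map g h (homOfLE h').op) r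
  · show _ = resR h' (κ (gen1 hj hU e x)) • _
    rw [← res_sec g σ h h', ← res_sec g σ h h', ← res_smul, ← hκ.2]

end ring

section restrict

variable {U D : Y.Opens} (hU : IsAffineOpen U) (hD : IsAffineOpen D) (i : D ≤ U) (e : Γ(E, U))

/-- Restriction of chart rings. -/
def crRes : CR j hU e →+* CR j hD (res E i e) :=
  HomogeneousLocalization.map (𝒮.res hU hD i) (by
    rintro _ ⟨n, rfl⟩
    exact ⟨n, ((map_pow _ _ n).trans (congrArg (· ^ n)
      (jApp_res (A := 𝒮.toQCAlg) j (homOfLE i) e))).symm⟩)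

lemma crRes_gen1 (x : Γ(E, U)) :
    crRes hU hD i e (gen1 hj hU e x) = gen1 hj hD (res E i e) (res E i x) := by
  refine val_injective _ ?_
  rw [crRes, gen1, Away.mk, HomogeneousLocalization.map_mk, gen1, Away.mk, val_mk, val_mk]
  refine Localization.mk_eq_mk_iff.mpr (Localization.r_of_eq ?_)
  have hx := jApp_res (A := 𝒮.toQCAlg) j (homOfLE i) x
  have he := jApp_res (A := 𝒮.toQCAlg) j (homOfLE i) e
  simp [hx, he, AModX.res]

lemma crRes_cst (r : Γ(Y, U)) :
    crRes hU hD i e (cst hj hU e r) = cst hj hD (res E i e) (resR i r) := by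
  refine val_injective _ ?_
  rw [crRes, cst, Away.mk, HomogeneousLocalization.map_mk, cst, Away.mk, val_mk, val_mk]
  refine Localization.mk_eq_mk_iff.mpr (Localization.r_of_eq ?_)
  have hr := str_res 𝒮.toQCAlg (homOfLE i) r
  show (jApp (A := 𝒮.toQCAlg) j D (res E i e)) ^ 0 *
      (𝒮.presheaf.map (homOfLE i).op).hom ((𝒮.str.app (op U)).hom r) =
    (𝒮.presheaf.map (homOfLE i).op).hom ((jApp (A := 𝒮.toQCAlg) j U e) ^ 0) *
      (𝒮.str.app (op D)).hom (resR i r)
  rw [pow_zero, pow_zero, map_one, one_mul, one_mul]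
  exact hr

theorem isKappa_crRes {V : X.Opens} (h : V ≤ g ⁻¹ᵁ D) {κ : CR j hD (res E i e) →+* Γ(X, V)}
    (hκ : IsKappa σ hj hD (res E i e) h κ) :
    IsKappa σ hj hU e (h.trans (g.preimage_mono i)) (κ.comp (crRes hU hD i e)) := by
  refine ⟨fun r => ?_, fun x => ?_⟩
  · show κ (crRes hU hD i e (cst hj hU e r)) = _
    rw [crRes_cst, hκ.1]
    exact ConcreteCategory.congr_hom (Scheme.Hom.map_appLE g h (homOfLE i).op) r
  · show _ = κ (crRes hU hD i e (gen1 hj hU e x)) • _
    rw [crRes_gen1, ← sec_res g σ i h, ← sec_res g σ i h]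
    exact hκ.2 _

end restrict

end Groth.Agent.Eg2Bundle
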