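import Groth.Agent.Eg2Sym.Graded
import Groth.Agent.EgaQ.BC
import Groth.Agent.InvX.GenLocusPull
import Groth.Agent.QCoh.PullbackBC

/-!
# The symmetric algebra of an inverse image is a base change
-/

universe u

open CategoryTheory CategoryTheory.Limits AlgebraicGeometry TopologicalSpace Opposite
open scoped HomogeneousIdeal

set_option backward.isDefEq.respectTransparency false
set_option backward.isDefEq.respectTransparency.types false

noncomputable section

namespace Groth.Agent.Eg2Bundle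

open Groth.Agent.Eg2Sym

variable {Y Y' : Scheme.{u}} (ψ : Y' ⟶ Y) {E : Y.Modules} {A : RelSpec.QCAlg Y} {B : RelSpec.QCAlg Y'}
  {j : E ⟶ A.toModule} {j' : (Scheme.Modules.pullback ψ).obj E ⟶ B.toModule}

/-- The comparison map of the symmetric algebras. -/
theorem exists_qHom (hA : IsAffSym E A j) :
    ∃ u : RelSpec.QHom ψ A B, ∀ U : Y.Opens, IsAffineOpen U → ∀ x : Γ(E, U),
      (u.app U).hom (jApp j U x) = jApp j' (ψ ⁻¹ᵁ U) (InvX.pullElt ψ x) := by
  have hex : ∀ U : Y.affineOpens, ∃ G : A.presheaf.obj (op U.1) ⟶ B.presheaf.obj (op (ψ ⁻¹ᵁ U.1)),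
      (∀ r, G.hom ((A.str.app (op U.1)).hom r) =
        (B.str.app (op (ψ ⁻¹ᵁ U.1))).hom ((ψ.app U.1).hom r)) ∧
      ∀ x, G.hom (jApp j U.1 x) = jApp j' (ψ ⁻¹ᵁ U.1) (InvX.pullElt ψ x) := by
    intro U
    let f : Γ(E, U.1) →+ B.presheaf.obj (op (ψ ⁻¹ᵁ U.1)) :=
      (jApp j' (ψ ⁻¹ᵁ U.1)).comp
        (((Scheme.Modules.pullbackPushforwardAdjunction ψ).unit.app E).app U.1).hom
    obtain ⟨G, h0, h1⟩ := (hA U.1 U.2).exists_lift
      ((B.str.app (op (ψ ⁻¹ᵁ U.1))).hom.comp (ψ.app U.1).hom) f fun r x => by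
        show jApp j' _ (InvX.pullElt ψ (r • x)) = _
        rw [InvX.pullElt_smul]
        exact jApp_smul j' (ψ ⁻¹ᵁ U.1) _ _
    exact ⟨G, h0, h1⟩
  choose G hG0 hG1 using hex
  have hnat : ∀ (U V : Y.affineOpens) (i : V.1 ⟶ U.1),
      G U ≫ B.presheaf.map ((Opens.map ψ.base).map i).op = A.presheaf.map i.op ≫ G V := by
    intro U V i
    refine (hA U.1 U.2).ext _ _ (fun r => ?_) (fun x => ?_)
    · show (B.presheaf.map _).hom ((G U).hom _) = (G V).hom ((A.presheaf.map i.op).hom _)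
      rw [hG0, str_res A i r, hG0, str_res B]
      exact congrArg _ (congr($(ψ.naturality i.op).hom r)).symm
    · show (B.presheaf.map _).hom ((G U).hom _) = (G V).hom ((A.presheaf.map i.op).hom _)
      rw [hG1, jApp_res j i x, hG1, jApp_res j']
      exact congrArg _ (InvX.res_pullElt ψ i.le x)
  let B' : TopCat.Sheaf CommRingCat.{u} Y.carrier :=
    (TopCat.Sheaf.pushforward CommRingCat.{u} ψ.base).obj ⟨B.presheaf, B.isSheaf⟩
  let α : (inducedFunctor (ProjDualR.HomAffine.B Y)).op ⋙ A.presheaf ⟶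
      (inducedFunctor (ProjDualR.HomAffine.B Y)).op ⋙ B'.1 :=
    { app := fun U => G U.unop
      naturality := fun U V i => (hnat U.unop V.unop i.unop.hom).symm }
  let β : A.presheaf ⟶ B'.1 :=
    TopCat.Sheaf.restrictHomEquivHom A.presheaf B' (ProjDualR.HomAffine.basis Y) α
  have hβ : ∀ U : Y.affineOpens, β.app (op U.1) = G U :=
    TopCat.Sheaf.extend_hom_app A.presheaf B' (ProjDualR.HomAffine.basis Y) α
  let γ : Y.presheaf ⟶ B'.1 :=
    { app := fun U => ψ.app U.unop ≫ B.str.app (op (ψ ⁻¹ᵁ U.unop))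
      naturality := fun U V i => by
        show Y.presheaf.map i ≫ ψ.app _ ≫ B.str.app _ =
          (ψ.app _ ≫ B.str.app _) ≫ B.presheaf.map ((Opens.map ψ.base).map i.unop).op
        rw [Category.assoc, ← B.str.naturality, ← Category.assoc, ← Category.assoc, ψ.naturality] }
  have hcomm : A.str ≫ β = γ :=
    TopCat.Sheaf.hom_ext Y.presheaf B' (ProjDualR.HomAffine.basis Y) fun U => by
      refine CommRingCat.hom_ext (RingHom.ext fun r => ?_)
      show (β.app (op U.1)).hom ((A.str.app (op U.1)).hom r) = _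
      rw [hβ]
      exact hG0 U r
  refine ⟨⟨fun U => β.app (op U), fun i => (β.naturality (homOfLE i).op).symm,
    fun U => congr($(hcomm).app (op U))⟩, fun U hU x => ?_⟩
  show (β.app (op U)).hom _ = _
  rw [hβ ⟨U, hU⟩]
  exact hG1 ⟨U, hU⟩ x

variable {ψ}

lemma appLE_jApp (u : RelSpec.QHom ψ A B) (hu : ∀ U : Y.Opens, IsAffineOpen U → ∀ x : Γ(E, U),
      (u.app U).hom (jApp j U x) = jApp j' (ψ ⁻¹ᵁ U) (InvX.pullElt ψ x))
    {U : Y.Opens} (hU : IsAffineOpen U) {U' : Y'.Opens} (hle : U' ≤ ψ ⁻¹ᵁ U) (x : Γ(E, U)) :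
    (u.appLE U U' hle).hom (jApp j U x) = jApp j' U' (QCoh.pullSec ψ E hle x) := by
  show (B.presheaf.map _).hom ((u.app U).hom _) = _
  rw [hu U hU, jApp_res j']
  rfl

lemma appLE_str (u : RelSpec.QHom ψ A B) (U : Y.Opens) (U' : Y'.Opens) (hle : U' ≤ ψ ⁻¹ᵁ U) :
    A.str.app (op U) ≫ u.appLE U U' hle = ψ.appLE U U' hle ≫ B.str.app (op U') := by
  rw [RelSpec.QHom.appLE_eq, reassoc_of% u.str_app U, ← B.str.naturality]
  rfl

/-- The comparison map is a base change. -/
theorem isQBaseChange (hE : Coh.IsQCoh E) (hA : IsAffSym E A j)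
    (hB : IsAffSym ((Scheme.Modules.pullback ψ).obj E) B j') (u : RelSpec.QHom ψ A B)
    (hu : ∀ U : Y.Opens, IsAffineOpen U → ∀ x : Γ(E, U),
      (u.app U).hom (jApp j U x) = jApp j' (ψ ⁻¹ᵁ U) (InvX.pullElt ψ x)) :
    RelSpec.IsQBaseChange u := by
  intro U hU U' hU' hle
  have key : ∀ s : PushoutCocone (ψ.appLE U U' hle) (A.str.app (op U)),
      ∃! l : B.presheaf.obj (op U') ⟶ s.pt,
        B.str.app (op U') ≫ l = s.inl ∧ u.appLE U U' hle ≫ l = s.inr := by
    intro s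
    let : Algebra Γ(Y, U) Γ(Y', U') := (ψ.appLE U U' hle).hom.toAlgebra
    let : Module Γ(Y, U) Γ((Scheme.Modules.pullback ψ).obj E, U') :=
      Module.compHom _ (algebraMap Γ(Y, U) Γ(Y', U'))
    have : IsScalarTower Γ(Y, U) Γ(Y', U') Γ((Scheme.Modules.pullback ψ).obj E, U') :=
      .of_algebraMap_smul fun _ _ => rfl
    let : Module Γ(Y', U') s.pt := Module.compHom _ s.inl.hom
    let : Module Γ(Y, U) s.pt := Module.compHom _ (algebraMap Γ(Y, U) Γ(Y', U'))
    have : IsScalarTower Γ(Y, U) Γ(Y', U') s.pt := .of_algebraMap_smul fun _ _ => rfl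
    let l : Γ(E, U) →ₗ[Γ(Y, U)] Γ((Scheme.Modules.pullback ψ).obj E, U') :=
      { toFun := QCoh.pullSec ψ E hle
        map_add' := QCoh.pullSec_add ψ E hle
        map_smul' := fun r x => QCoh.pullSec_smul ψ E hle r x }
    have hbc := QCoh.isBaseChange_pullback hU ψ hU' hE hle (fun _ => rfl) l fun _ => rfl
    let m : Γ(E, U) →ₗ[Γ(Y, U)] s.pt :=
      { toFun := fun x => s.inr.hom (jApp j U x)
        map_add' := fun x y => by rw [map_add, map_add]
        map_smul' := fun r x => by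
          show s.inr.hom (jApp j U (r • x)) =
            s.inl.hom ((ψ.appLE U U' hle).hom r) * s.inr.hom (jApp j U x)
          rw [jApp_smul, map_mul]
          exact congrArg (· * _) (congr($(s.condition).hom r)).symm }
    let m' := hbc.lift m
    have hm' : ∀ x, m' (QCoh.pullSec ψ E hle x) = s.inr.hom (jApp j U x) := hbc.lift_eq m
    obtain ⟨L, hL0, hL1⟩ := (hB U' hU').exists_lift s.inl.hom m'.toAddMonoidHom
      fun c z => m'.map_smul c z
    refine ⟨L, ⟨?_, ?_⟩, fun L' hL' => ?_⟩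
    · exact CommRingCat.hom_ext (RingHom.ext hL0)
    · refine (hA U hU).ext _ _ (fun r => ?_) (fun x => ?_)
      · show L.hom ((A.str.app (op U) ≫ u.appLE U U' hle).hom r) = _
        rw [appLE_str]
        exact (hL0 _).trans (congr($(s.condition).hom r))
      · show L.hom ((u.appLE U U' hle).hom _) = _
        rw [appLE_jApp u hu hU hle]
        exact (hL1 _).trans (hm' x)
    · refine (hB U' hU').ext _ _ (fun r => ?_) (fun z => ?_)
      · exact (congr($(hL'.1).hom r)).trans (hL0 r).symm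
      · refine Eq.trans ?_ (hL1 z).symm
        show L'.hom (jApp j' U' z) = m' z
        refine hbc.inductionOn z (fun z => L'.hom (jApp j' U' z) = m' z) ?_ ?_ ?_ ?_
        · rw [map_zero, map_zero, map_zero]
        · intro x
          refine Eq.trans ?_ (hm' x).symm
          show L'.hom (jApp j' U' (QCoh.pullSec ψ E hle x)) = _
          rw [← appLE_jApp u hu hU hle]
          exact congr($(hL'.2).hom (jApp j U x))
        · intro c z hz
          rw [jApp_smul, map_mul, hz, map_smul]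
          exact congrArg (· * _) (congr($(hL'.1).hom c))
        · intro z z' hz hz'
          rw [map_add, map_add, hz, hz', map_add]
  choose l hl hl' using key
  exact IsPushout.of_isColimit' ⟨(appLE_str u U U' hle).symm⟩
    (PushoutCocone.IsColimit.mk _ l (fun s => (hl s).1) (fun s => (hl s).2)
      (fun s n h1 h2 => hl' s n ⟨h1, h2⟩))

/-- The comparison map preserves degrees. -/
theorem map_mem {𝒮 : RelProj.QCGrAlg Y} {𝒮' : RelProj.QCGrAlg Y'} {k : E ⟶ 𝒮.toModule}
    {k' : (Scheme.Modules.pullback ψ).obj E ⟶ 𝒮'.toModule} (hE : Coh.IsQCoh E)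
    (hk : RelProj.IsGrSymAlg E 𝒮 k) (hk' : RelProj.IsGrSymAlg ((Scheme.Modules.pullback ψ).obj E) 𝒮' k')
    (u : RelSpec.QHom ψ 𝒮.toQCAlg 𝒮'.toQCAlg)
    (hu : ∀ U : Y.Opens, IsAffineOpen U → ∀ x : Γ(E, U),
      (u.app U).hom (jApp (A := 𝒮.toQCAlg) k U x) =
        jApp (A := 𝒮'.toQCAlg) k' (ψ ⁻¹ᵁ U) (InvX.pullElt ψ x))
    (U : Y.Opens) (hU : IsAffineOpen U) (U' : Y'.Opens) (hU' : IsAffineOpen U') (hle : U' ≤ ψ ⁻¹ᵁ U)
    {d : ℕ} {x : 𝒮.presheaf.obj (op U)} (hx : x ∈ 𝒮.deg U hU d) :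
    (u.appLE U U' hle).hom x ∈ 𝒮'.deg U' hU' d := by
  rw [deg_eq hE hk hU] at hx
  rw [deg_eq (QCoh.isQCoh_pullback ψ hE) hk' hU']
  refine map_mem_powSub _ _ _ _ _ _ (u.appLE U U' hle).hom ?_ ?_ d hx
  · intro r
    exact (mem_powSub_zero _ _ _).mpr ⟨_, (congr($(appLE_str u U U' hle).hom r)).symm⟩
  · intro y
    exact (mem_powSub_one _ _ _).mpr ⟨_, (appLE_jApp u hu hU hle y).symm⟩

end Groth.Agent.Eg2Bundle
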