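import Groth.Agent.Eg2Bundle.Agree
import Groth.Agent.Eg2Bundle.Frames
import Groth.Agent.EtLC12.AssocUnit

/-!
# The morphism into a projective bundle given by an invertible quotient
-/

universe u

open CategoryTheory CategoryTheory.Limits AlgebraicGeometry TopologicalSpace Opposite HomogeneousLocalization
open Groth.Agent.AModX
open scoped HomogeneousIdeal

set_option backward.isDefEq.respectTransparency false
set_option backward.isDefEq.respectTransparency.types false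

noncomputable section

namespace Groth.Agent.Eg2Bundle

open Groth.Agent.Eg2Sym

variable {Y X P : Scheme.{u}} {E : Y.Modules} {𝒮 : RelProj.QCGrAlg Y} {j : E ⟶ 𝒮.toModule} {p : P ⟶ Y}
  {chart : ∀ (U : Y.Opens) (hU : IsAffineOpen U), ((p ⁻¹ᵁ U : P.Opens) : Scheme.{u}) ≅ Proj (𝒮.deg U hU)}
  {g : X ⟶ Y} {L : X.Modules} {σ : E ⟶ (Scheme.Modules.pushforward g).obj L}

/-- An open of `X` on which a section of `E` frames the quotient. -/
structure Datum (σ : E ⟶ (Scheme.Modules.pushforward g).obj L) where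
  U : Y.Opens
  hU : IsAffineOpen U
  e : Γ(E, U)
  V : X.Opens
  le : V ≤ g ⁻¹ᵁ U
  frame : InvX.IsFrame (sec g σ le e)

lemma toSpecΓ_comp_injective {V : X.Opens} {R : CommRingCat.{u}} {a b : R ⟶ Γ(X, V)}
    (h : V.toSpecΓ ≫ Spec.map a = V.toSpecΓ ≫ Spec.map b) : a = b := by
  have h3 := congrArg (fun m : V.toScheme ⟶ Spec R =>
    (Scheme.ΓSpecIso _).inv ≫ m.appTop ≫ V.topIso.hom) h
  simpa only [Scheme.Hom.comp_appTop, Scheme.Opens.toSpecΓ_appTop, Category.assoc, Iso.inv_hom_id,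
    Category.comp_id, Scheme.ΓSpecIso_naturality, Iso.inv_hom_id_assoc] using h3

variable (hE : Coh.IsQCoh E) (hj : RelProj.IsGrSymAlg E 𝒮 j) (hP : RelProj.IsRelProj 𝒮 p chart)

include hP in
/-- A chart map over `g` restricts to the structure map on constants. -/
theorem cst_of_proj {U : Y.Opens} (hU : IsAffineOpen U) (e : Γ(E, U)) {V : X.Opens} (hV : V ≤ g ⁻¹ᵁ U)
    (κ : CR j hU e →+* Γ(X, V)) (h : chartMap chart hj hU e κ ≫ p = V.ι ≫ g) (r : Γ(Y, U)) :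
    κ (cst hj hU e r) = (g.appLE U V hV).hom r := by
  let c : Γ(Y, U) ⟶ CommRingCat.of (CR j hU e) :=
    𝒮.strZero U hU ≫ CommRingCat.ofHom (fromZeroRingHom (𝒮.deg U hU) _)
  have hc : cst hj hU e r = c.hom r := by
    refine val_injective _ ?_
    rw [cst, Away.val_mk]
    show _ = (fromZeroRingHom (𝒮.deg U hU) _ ⟨(𝒮.str.app (op U)).hom r, 𝒮.str_mem U hU r⟩).val
    rw [fromZeroRingHom]
    simp
  have h2 : V.toSpecΓ ≫ Spec.map (c ≫ CommRingCat.ofHom κ) = V.toSpecΓ ≫ Spec.map (g.appLE U V hV) := by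
    rw [← cancel_mono hU.fromSpec, Scheme.Opens.toSpecΓ_SpecMap_appLE, Category.assoc,
      Category.assoc (g.resLE U V hV), hU.toSpecΓ_fromSpec, Scheme.Hom.resLE_comp_ι, ← h, chartMap, jmor, Category.assoc,
      Category.assoc, Category.assoc, Category.assoc]
    rw [EgaQ.emb_π hP U hU, Proj.awayι_toSpecZero_assoc, Spec.map_comp,
      Spec.map_comp, Category.assoc, Category.assoc]
  rw [hc]
  exact congr($(toSpecΓ_comp_injective h2).hom r)

include hE hP in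
/-- The morphism given by the quotient: on a frame it is the chart map of the coordinates. -/
theorem exists_classifying (hσ : ∀ x, ∃ a : Datum σ, x ∈ a.V) :
    ∃ r : X ⟶ P, r ≫ p = g ∧ ∀ (a : Datum σ) (κ : CR j a.hU a.e →+* Γ(X, a.V)),
      IsKappa σ hj a.hU a.e a.le κ → a.V.ι ≫ r = chartMap chart hj a.hU a.e κ := by
  have hk : ∀ a : Datum σ, ∃ κ : CR j a.hU a.e →+* Γ(X, a.V), IsKappa σ hj a.hU a.e a.le κ :=
    fun a => exists_isKappa hE hj a.hU a.e a.le a.frame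
  choose k hk using hk
  have hcov : IsOpenCover (fun a : Datum σ => a.V) :=
    top_le_iff.mp fun x _ => Opens.mem_iSup.mpr (hσ x)
  have agree : ∀ (a b : Datum σ) (κ : CR j a.hU a.e →+* Γ(X, a.V)) (κ' : CR j b.hU b.e →+* Γ(X, b.V)),
      IsKappa σ hj a.hU a.e a.le κ → IsKappa σ hj b.hU b.e b.le κ' →
      X.homOfLE (inf_le_left : a.V ⊓ b.V ≤ a.V) ≫ chartMap chart hj a.hU a.e κ =
        X.homOfLE (inf_le_right : a.V ⊓ b.V ≤ b.V) ≫ chartMap chart hj b.hU b.e κ' := by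
    intro a b κ κ' hκ hκ'
    rw [chartMap_res, chartMap_res]
    refine chartMap_agree hE hj hP a.hU b.hU a.e b.e (inf_le_left.trans a.le) (inf_le_right.trans b.le)
      ?_ ?_ (isKappa_res hj a.hU a.e a.le hκ _) (isKappa_res hj b.hU b.e b.le hκ' _)
    · rw [← res_sec g σ a.le inf_le_left]; exact a.frame.res _
    · rw [← res_sec g σ b.le inf_le_right]; exact b.frame.res _
  let 𝒰 := X.openCoverOfIsOpenCover (fun a : Datum σ => a.V) hcov
  let r : X ⟶ P := 𝒰.glueMorphisms (fun a => chartMap chart hj a.hU a.e (k a)) fun a b => by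
    rw [← cancel_epi (isPullback_opens_inf a.V b.V).isoPullback.hom, ← Category.assoc, ← Category.assoc]
    erw [IsPullback.isoPullback_hom_fst, IsPullback.isoPullback_hom_snd]
    exact agree a b _ _ (hk a) (hk b)
  have hr : ∀ a : Datum σ, a.V.ι ≫ r = chartMap chart hj a.hU a.e (k a) := fun a =>
    𝒰.ι_glueMorphisms _ _ a
  refine ⟨r, 𝒰.hom_ext _ _ fun a => ?_, fun a κ hκ => ?_⟩
  · show a.V.ι ≫ r ≫ p = a.V.ι ≫ g
    rw [← Category.assoc, hr, chartMap_proj hj a.hU a.e hP g a.le (k a) (hk a).1]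
  · rw [hr, isKappa_unique hE hj a.hU a.e a.le a.frame (hk a) hκ]

variable {r : X ⟶ P}

lemma le_preimage_genOpen {U : Y.Opens} (hU : IsAffineOpen U) (e : Γ(E, U)) {V : X.Opens}
    (κ : CR j hU e →+* Γ(X, V)) (hr : V.ι ≫ r = chartMap chart hj hU e κ) :
    V ≤ r ⁻¹ᵁ genOpen j chart hU e := by
  intro x hx
  have h1 : x ∈ X.basicOpen (κ (gen1 hj hU e e)) := by
    rw [gen1_self, map_one]
    exact (X.mem_basicOpen (1 : Γ(X, V)) x hx).2 (by rw [map_one]; exact isUnit_one)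
  have h2 := (chartMap_mem_genOpen_iff (chart := chart) hj hU e κ e ⟨x, hx⟩).2 h1
  rw [← hr] at h2
  exact h2

theorem appLE_theta_eq {U : Y.Opens} (hU : IsAffineOpen U) (e : Γ(E, U)) {V : X.Opens}
    (κ : CR j hU e →+* Γ(X, V)) (hr : V.ι ≫ r = chartMap chart hj hU e κ) :
    ((r.appLE (genOpen j chart hU e) V (le_preimage_genOpen hj hU e κ hr)).hom.comp (theta chart hU e)) = κ :=
  chartMap_injective hj hU e ((ι_comp_eq_chartMap hj hU e r _).symm.trans hr)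

variable {O1 : P.Modules}
  {lam : ∀ (U : Y.Opens) (hU : IsAffineOpen U),
    O1 ⟶ (Scheme.Modules.pushforward (RelProj.emb p chart U hU)).obj (GrTwist.twist (𝒮.deg U hU) 1)}
  (hO1 : RelProj.IsRelTwist 𝒮 p chart 1 O1 lam)
  (φ : E ⟶ (Scheme.Modules.pushforward p).obj O1)
  (hφ : ∀ (U : Y.Opens) (hU : IsAffineOpen U) (e : Γ(E, U))
    (y : ↥(RelProj.emb p chart U hU ⁻¹ᵁ (p ⁻¹ᵁ U))),
    GrTwist.val (V := RelProj.emb p chart U hU ⁻¹ᵁ (p ⁻¹ᵁ U))
        ((lam U hU).app (p ⁻¹ᵁ U) ((φ.app U) e)) y =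
      algebraMap (𝒮.presheaf.obj (op U)) (GrTwist.Loc (𝒮.deg U hU) y.1)
        ((j.app U) e : 𝒮.presheaf.obj (op U)))

variable (r) in
/-- The pulled back section of the fundamental sheaf given by a section of `E`. -/
def pp {U : Y.Opens} {V : X.Opens} (h : V ≤ r ⁻¹ᵁ p ⁻¹ᵁ U) (x : Γ(E, U)) :
    Γ((Scheme.Modules.pullback r).obj O1, V) :=
  res _ h (InvX.pullElt r (show Γ(O1, p ⁻¹ᵁ U) from φ.app U x))

lemma res_pp {U : Y.Opens} {V W : X.Opens} (h : V ≤ r ⁻¹ᵁ p ⁻¹ᵁ U) (h' : W ≤ V) (x : Γ(E, U)) :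
    res _ h' (pp r φ h x) = pp r φ (h'.trans h) x :=
  res_res h h' _

lemma pp_res {U D : Y.Opens} {V : X.Opens} (i : D ≤ U) (h : V ≤ r ⁻¹ᵁ p ⁻¹ᵁ D) (x : Γ(E, U)) :
    pp r φ h (res E i x) = pp r φ (h.trans (r.preimage_mono (p.preimage_mono i))) x := by
  rw [pp, pp, show (show Γ(O1, p ⁻¹ᵁ D) from φ.app D (res E i x)) =
    res O1 (p.preimage_mono i) (show Γ(O1, p ⁻¹ᵁ U) from φ.app U x) from app_res φ i x,
    ← InvX.res_pullElt, res_res]

include hj hO1 hφ in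
lemma isFrame_pp {U : Y.Opens} (hU : IsAffineOpen U) (e : Γ(E, U)) {V : X.Opens}
    (hG : V ≤ r ⁻¹ᵁ genOpen j chart hU e) (h : V ≤ r ⁻¹ᵁ p ⁻¹ᵁ U) : InvX.IsFrame (pp r φ h e) := by
  have h1 := (InvX.isFrame_pullElt r (isFrame_phi hj hO1 φ hφ hU e)).res hG
  rw [← InvX.res_pullElt, res_res] at h1
  exact h1

include hO1 hφ in
lemma pp_coord {U : Y.Opens} (hU : IsAffineOpen U) (e : Γ(E, U)) {V : X.Opens}
    (hG : V ≤ r ⁻¹ᵁ genOpen j chart hU e) (h : V ≤ r ⁻¹ᵁ p ⁻¹ᵁ U) (x : Γ(E, U)) :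
    pp r φ h x = (show Γ(X, V) from
      (r.appLE (genOpen j chart hU e) V hG).hom (theta chart hU e (gen1 hj hU e x))) • pp r φ h e := by
  have h1 := congrArg (fun t => res _ hG (InvX.pullElt r t)) (phi_coord hj hU e hO1 φ hφ x)
  simp only [InvX.pullElt_smul, res_smul] at h1
  rw [← InvX.res_pullElt, ← InvX.res_pullElt, res_res, res_res] at h1
  exact h1

include hE hO1 hφ in
/-- Coordinates of two sections agree for the quotient and for the pulled back fundamental sheaf. -/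
theorem exists_common (hr : r ≫ p = g)
    (hspec : ∀ (a : Datum σ) (κ : CR j a.hU a.e →+* Γ(X, a.V)),
      IsKappa σ hj a.hU a.e a.le κ → a.V.ι ≫ r = chartMap chart hj a.hU a.e κ)
    (a : Datum σ) {U : Y.Opens} (hU : IsAffineOpen U) (x : Γ(E, U)) {W : X.Opens} (ha : W ≤ a.V)
    (hx : W ≤ g ⁻¹ᵁ U) (hpa : W ≤ r ⁻¹ᵁ p ⁻¹ᵁ a.U) (hpx : W ≤ r ⁻¹ᵁ p ⁻¹ᵁ U) (w : X) (hw : w ∈ W) :
    ∃ (W' : X.Opens) (hW : W' ≤ W) (c : Γ(X, W')), w ∈ W' ∧
      sec g σ (hW.trans hx) x = c • sec g σ ((hW.trans ha).trans a.le) a.e ∧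
      pp r φ (hW.trans hpx) x = c • pp r φ (hW.trans hpa) a.e ∧
      InvX.IsFrame (sec g σ ((hW.trans ha).trans a.le) a.e) ∧
      InvX.IsFrame (pp r φ (hW.trans hpa) a.e) := by
  obtain ⟨t, t', htt, hwt⟩ := exists_basicOpen_le_affine_inter a.hU hU (g w) ⟨a.le (ha hw), hx hw⟩
  set D := Y.basicOpen t with hD'
  have hD : IsAffineOpen D := a.hU.basicOpen t
  have ia : D ≤ a.U := Y.basicOpen_le t
  have ix : D ≤ U := htt ▸ Y.basicOpen_le t'
  set W' := W ⊓ g ⁻¹ᵁ D with hW'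
  have hW : W' ≤ W := inf_le_left
  have hWD : W' ≤ g ⁻¹ᵁ D := inf_le_right
  have hWpD : W' ≤ r ⁻¹ᵁ p ⁻¹ᵁ D := by
    rw [← Scheme.Hom.comp_preimage, hr]; exact hWD
  have hfr : InvX.IsFrame (sec g σ ((hW.trans ha).trans a.le) a.e) := by
    rw [← res_sec g σ a.le (hW.trans ha)]; exact a.frame.res _
  let b : Datum σ := ⟨D, hD, res E ia a.e, W', hWD, by rw [sec_res]; exact hfr⟩
  obtain ⟨κ, hκ⟩ := exists_isKappa hE hj b.hU b.e b.le b.frame
  have hb := hspec b κ hκ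
  have hG := le_preimage_genOpen hj b.hU b.e κ hb
  refine ⟨W', hW, κ (gen1 hj hD (res E ia a.e) (res E ix x)), ⟨hw, hwt⟩, ?_, ?_, hfr, ?_⟩
  · rw [← sec_res g σ ia hWD, ← sec_res g σ ix hWD]
    exact hκ.2 _
  · rw [← pp_res φ ia hWpD, ← pp_res φ ix hWpD,
      pp_coord hj hO1 φ hφ hD (res E ia a.e) hG hWpD (res E ix x)]
    exact congrArg (· • _) (congr($(appLE_theta_eq hj b.hU b.e κ hb) (gen1 hj hD (res E ia a.e) (res E ix x))))
  · rw [← pp_res φ ia hWpD]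
    exact isFrame_pp hj hO1 φ hφ hD _ hG hWpD

end Groth.Agent.Eg2Bundle
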