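import Groth.Agent.Eg2Bundle.GradedHom
import Groth.Agent.Eg2Bundle.GlueProj
import Groth.Agent.Eg2Twist.TmulFrame

/-!
# `P(E ⊗ L) ≅ P(E)` for an invertible `L`
-/

universe u

open CategoryTheory CategoryTheory.Limits AlgebraicGeometry TopologicalSpace Opposite HomogeneousLocalization
open Groth.Agent.AModX
open scoped HomogeneousIdeal

set_option backward.isDefEq.respectTransparency false
set_option backward.isDefEq.respectTransparency.types false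

noncomputable section

namespace Groth.Agent.Eg2Bundle

open Groth.Agent.Eg2Sym

/-- An affine open with a frame. -/
structure FIdx {Y : Scheme.{u}} (L : Y.Modules) where
  U : Y.Opens
  hU : IsAffineOpen U
  ℓ : Γ(L, U)
  frame : InvX.IsFrame ℓ

variable {Y : Scheme.{u}} {E L : Y.Modules} {𝒮 𝒯 : RelProj.QCGrAlg Y} {j : E ⟶ 𝒮.toModule}
  {k : CohB1.tensorMod E L ⟶ 𝒯.toModule}

lemma exists_fIdx (hL : PicF.IsInvertible L) (y : Y) : ∃ a : FIdx L, y ∈ a.U := by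
  obtain ⟨V, hy, e, he⟩ := InvX.exists_frame hL y
  obtain ⟨U, hU, hyU, hUV⟩ := exists_isAffineOpen_mem_and_subset hy
  exact ⟨⟨U, hU, res L hUV e, he.res _⟩, hyU⟩

/-- The restricted index. -/
def FIdx.restrict (a : FIdx L) {D : Y.Opens} (hD : IsAffineOpen D) (i : D ≤ a.U) : FIdx L :=
  ⟨D, hD, res L i a.ℓ, a.frame.res i⟩

lemma isUnit_of_frames {U : Y.Opens} {e e' : Γ(L, U)} (he : InvX.IsFrame e) (he' : InvX.IsFrame e')
    {c : Γ(Y, U)} (hc : e' = c • e) : IsUnit c := by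
  obtain ⟨d, hd⟩ := he'.exists_coord le_rfl e
  rw [res_self] at hd
  refine IsUnit.of_mul_eq_one d (he.coord_unique le_rfl ?_)
  rw [res_self, one_smul, mul_comm, mul_smul, ← hc, ← hd]

variable (hE : Coh.IsQCoh E) (hEL : Coh.IsQCoh (CohB1.tensorMod E L))
  (hj : RelProj.IsGrSymAlg E 𝒮 j) (hk : RelProj.IsGrSymAlg (CohB1.tensorMod E L) 𝒯 k)

variable (j k) in
/-- `φ` is given in degree one by `x ⊗ ℓ ↦ x`. -/
def IsT (a : FIdx L) (φ : 𝒯.deg a.U a.hU →+*ᵍ 𝒮.deg a.U a.hU) : Prop :=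
  (∀ r, φ ((𝒯.str.app (op a.U)).hom r) = (𝒮.str.app (op a.U)).hom r) ∧
    ∀ x, φ (jApp (A := 𝒯.toQCAlg) k a.U (InvX.tmul x a.ℓ)) = jApp (A := 𝒮.toQCAlg) j a.U x

variable (j k) in
/-- `ψ` is given in degree one by `x ↦ x ⊗ ℓ`. -/
def IsS (a : FIdx L) (ψ : 𝒮.deg a.U a.hU →+*ᵍ 𝒯.deg a.U a.hU) : Prop :=
  (∀ r, ψ ((𝒮.str.app (op a.U)).hom r) = (𝒯.str.app (op a.U)).hom r) ∧
    ∀ x, ψ (jApp (A := 𝒮.toQCAlg) j a.U x) = jApp (A := 𝒯.toQCAlg) k a.U (InvX.tmul x a.ℓ)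

include hE hj hk in
theorem exists_S (a : FIdx L) : ∃ ψ, IsS j k a ψ := by
  let f : Γ(E, a.U) →+ 𝒯.presheaf.obj (op a.U) :=
    (jApp (A := 𝒯.toQCAlg) k a.U).comp (AddMonoidHom.mk' (fun x : Γ(E, a.U) => InvX.tmul x a.ℓ)
      fun x y => Eg2Twist.tmul_add_left x y a.ℓ)
  exact exists_gradedHom hE hj a.hU f (fun r x => by
    show jApp (A := 𝒯.toQCAlg) k a.U (InvX.tmul (r • x) a.ℓ) = _
    rw [InvX.tmul_smul_left, jApp_smul]
    rfl) fun x => hk.2 a.U a.hU _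

include hEL hj hk in
theorem exists_T (a : FIdx L) : ∃ φ, IsT j k a φ := by
  have hb : Function.Bijective fun x : Γ(E, a.U) => InvX.tmul x a.ℓ := by
    have h := Eg2Twist.bijective_tmul_frame (M := E) a.frame (le_refl a.U)
    simpa only [res_self] using h
  let e : Γ(E, a.U) ≃+ Γ(CohB1.tensorMod E L, a.U) :=
    AddEquiv.ofBijective (AddMonoidHom.mk' (fun x : Γ(E, a.U) => InvX.tmul x a.ℓ)
      fun x y => Eg2Twist.tmul_add_left x y a.ℓ) hb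
  have he : ∀ (r : Γ(Y, a.U)) (x : Γ(CohB1.tensorMod E L, a.U)), e.symm (r • x) = r • e.symm x :=
    fun r x => e.injective <| by
    rw [AddEquiv.apply_symm_apply]
    show _ = InvX.tmul (r • e.symm x) a.ℓ
    rw [InvX.tmul_smul_left]
    exact congrArg (r • ·) (e.apply_symm_apply x).symm
  obtain ⟨φ, h0, h1⟩ := exists_gradedHom hEL hk a.hU
    ((jApp (A := 𝒮.toQCAlg) j a.U).comp e.symm.toAddMonoidHom) (fun r x => by
      show jApp (A := 𝒮.toQCAlg) j a.U (e.symm (r • x)) = _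
      rw [he, jApp_smul]
      rfl) fun x => hj.2 a.U a.hU _
  exact ⟨φ, h0, fun x => (h1 _).trans (congrArg _ (e.symm_apply_apply x))⟩

include hEL hk in
theorem S_T {a : FIdx L} {φ : 𝒯.deg a.U a.hU →+*ᵍ 𝒮.deg a.U a.hU}
    {ψ : 𝒮.deg a.U a.hU →+*ᵍ 𝒯.deg a.U a.hU} (hφ : IsT j k a φ) (hψ : IsS j k a ψ) :
    ψ.comp φ = GradedRingHom.id (𝒯.deg a.U a.hU) := by
  refine gradedHom_ext hEL hk (fun r => ?_) (fun z => ?_)
  · show ψ (φ _) = _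
    rw [hφ.1, hψ.1]; rfl
  · obtain ⟨x, hx⟩ := (Eg2Twist.bijective_tmul_frame (M := E) a.frame (le_refl a.U)).2 z
    simp only [res_self] at hx
    subst hx
    show ψ (φ _) = _
    rw [hφ.2, hψ.2]; rfl

include hE hj in
theorem T_S {a : FIdx L} {φ : 𝒯.deg a.U a.hU →+*ᵍ 𝒮.deg a.U a.hU}
    {ψ : 𝒮.deg a.U a.hU →+*ᵍ 𝒯.deg a.U a.hU} (hφ : IsT j k a φ) (hψ : IsS j k a ψ) :
    φ.comp ψ = GradedRingHom.id (𝒮.deg a.U a.hU) := by
  refine gradedHom_ext hE hj (fun r => ?_) (fun x => ?_)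
  · show φ (ψ _) = _
    rw [hψ.1, hφ.1]; rfl
  · show φ (ψ _) = _
    rw [hψ.2, hφ.2]; rfl

include hEL hk in
theorem T_res {a : FIdx L} {D : Y.Opens} {hD : IsAffineOpen D} {i : D ≤ a.U}
    {φ : 𝒯.deg a.U a.hU →+*ᵍ 𝒮.deg a.U a.hU} (hφ : IsT j k a φ)
    {φD : 𝒯.deg D hD →+*ᵍ 𝒮.deg D hD} (hφD : IsT j k (a.restrict hD i) φD) :
    (𝒮.res a.hU hD i).comp φ = φD.comp (𝒯.res a.hU hD i) := by
  refine gradedHom_ext' hEL hk (fun r => ?_) (fun z => ?_)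
  · show 𝒮.res a.hU hD i (φ _) = φD (𝒯.res a.hU hD i _)
    rw [hφ.1, RelProj.QCGrAlg.res_apply, RelProj.QCGrAlg.res_apply, str_res 𝒮.toQCAlg (homOfLE i) r,
      str_res 𝒯.toQCAlg (homOfLE i) r]
    exact (hφD.1 _).symm
  · obtain ⟨x, hx⟩ := (Eg2Twist.bijective_tmul_frame (M := E) a.frame (le_refl a.U)).2 z
    simp only [res_self] at hx
    subst hx
    show 𝒮.res a.hU hD i (φ _) = φD (𝒯.res a.hU hD i _)
    rw [hφ.2, RelProj.QCGrAlg.res_apply, RelProj.QCGrAlg.res_apply, jApp_res (A := 𝒮.toQCAlg) j (homOfLE i),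
      jApp_res (A := 𝒯.toQCAlg) k (homOfLE i)]
    refine (hφD.2 _).symm.trans (congrArg (fun t => φD (jApp (A := 𝒯.toQCAlg) k D t)) ?_)
    exact (InvX.res_tmul i x a.ℓ).symm

include hE hj in
theorem S_res {a : FIdx L} {D : Y.Opens} {hD : IsAffineOpen D} {i : D ≤ a.U}
    {ψ : 𝒮.deg a.U a.hU →+*ᵍ 𝒯.deg a.U a.hU} (hψ : IsS j k a ψ)
    {ψD : 𝒮.deg D hD →+*ᵍ 𝒯.deg D hD} (hψD : IsS j k (a.restrict hD i) ψD) :
    (𝒯.res a.hU hD i).comp ψ = ψD.comp (𝒮.res a.hU hD i) := by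
  refine gradedHom_ext' hE hj (fun r => ?_) (fun x => ?_)
  · show 𝒯.res a.hU hD i (ψ _) = ψD (𝒮.res a.hU hD i _)
    rw [hψ.1, RelProj.QCGrAlg.res_apply, RelProj.QCGrAlg.res_apply, str_res 𝒮.toQCAlg (homOfLE i) r,
      str_res 𝒯.toQCAlg (homOfLE i) r]
    exact (hψD.1 _).symm
  · show 𝒯.res a.hU hD i (ψ _) = ψD (𝒮.res a.hU hD i _)
    rw [hψ.2, RelProj.QCGrAlg.res_apply, RelProj.QCGrAlg.res_apply, jApp_res (A := 𝒮.toQCAlg) j (homOfLE i),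
      jApp_res (A := 𝒯.toQCAlg) k (homOfLE i)]
    refine Eq.trans ?_ (hψD.2 _).symm
    exact congrArg (jApp (A := 𝒯.toQCAlg) k D) (InvX.res_tmul i x a.ℓ)

lemma T_scale {D : Y.Opens} {hD : IsAffineOpen D} {ℓ ℓ' : Γ(L, D)} {h : InvX.IsFrame ℓ} {h' : InvX.IsFrame ℓ'}
    {c : Γ(Y, D)} (hc : ℓ' = c • ℓ)
    {φ φ' : 𝒯.deg D hD →+*ᵍ 𝒮.deg D hD} (hφ : IsT j k ⟨D, hD, ℓ, h⟩ φ) (hφ' : IsT j k ⟨D, hD, ℓ', h'⟩ φ')
    (z : Γ(CohB1.tensorMod E L, D)) :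
    φ (jApp (A := 𝒯.toQCAlg) k D z) = (𝒮.str.app (op D)).hom c * φ' (jApp (A := 𝒯.toQCAlg) k D z) := by
  obtain ⟨x, hx⟩ := (Eg2Twist.bijective_tmul_frame (M := E) h' (le_refl D)).2 z
  simp only [res_self] at hx
  subst hx
  rw [hφ'.2 x]
  show φ (jApp (A := 𝒯.toQCAlg) k D (InvX.tmul x ℓ')) = _
  have e : InvX.tmul x ℓ' = c • InvX.tmul x ℓ := (congrArg (InvX.tmul x) hc).trans (InvX.tmul_smul_right c x ℓ)
  rw [e, jApp_smul, map_mul, hφ.2 x, hφ.1]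

lemma S_scale {D : Y.Opens} {hD : IsAffineOpen D} {ℓ ℓ' : Γ(L, D)} {h : InvX.IsFrame ℓ} {h' : InvX.IsFrame ℓ'}
    {c : Γ(Y, D)} (hc : ℓ' = c • ℓ)
    {ψ ψ' : 𝒮.deg D hD →+*ᵍ 𝒯.deg D hD} (hψ : IsS j k ⟨D, hD, ℓ, h⟩ ψ) (hψ' : IsS j k ⟨D, hD, ℓ', h'⟩ ψ')
    (x : Γ(E, D)) :
    ψ' (jApp (A := 𝒮.toQCAlg) j D x) = (𝒯.str.app (op D)).hom c * ψ (jApp (A := 𝒮.toQCAlg) j D x) := by
  rw [hψ'.2 x, hψ.2 x]
  show jApp (A := 𝒯.toQCAlg) k D (InvX.tmul x ℓ') = _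
  have e : InvX.tmul x ℓ' = c • InvX.tmul x ℓ := (congrArg (InvX.tmul x) hc).trans (InvX.tmul_smul_right c x ℓ)
  rw [e, jApp_smul]

variable {P Q : Scheme.{u}} {p : P ⟶ Y} {q : Q ⟶ Y}
  {chart : ∀ (U : Y.Opens) (hU : IsAffineOpen U), ((p ⁻¹ᵁ U : P.Opens) : Scheme.{u}) ≅ Proj (𝒮.deg U hU)}
  {chartQ : ∀ (U : Y.Opens) (hU : IsAffineOpen U), ((q ⁻¹ᵁ U : Q.Opens) : Scheme.{u}) ≅ Proj (𝒯.deg U hU)}
  (hP : RelProj.IsRelProj 𝒮 p chart) (hQ : RelProj.IsRelProj 𝒯 q chartQ)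

include hE hEL hj hk hP hQ in
theorem exists_iso (hL : PicF.IsInvertible L) :
    ∃ i : P ≅ Q, i.hom ≫ q = p ∧
      ∀ (a : FIdx L) (φ : 𝒯.deg a.U a.hU →+*ᵍ 𝒮.deg a.U a.hU), IsT j k a φ →
        ∀ hφ : (𝒮.deg a.U a.hU)₊ ≤ ((𝒯.deg a.U a.hU)₊).map φ,
          RelProj.emb p chart a.U a.hU ≫ i.hom = Proj.map φ hφ ≫ RelProj.emb q chartQ a.U a.hU := by
  choose T hT using fun a : FIdx L => exists_T (j := j) hEL hj hk a
  choose S hS using fun a : FIdx L => exists_S (k := k) hE hj hk a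
  have hTS : ∀ a y, T a (S a y) = y := fun a y => DFunLike.congr_fun (T_S hE hj (hT a) (hS a)) y
  have hST : ∀ a y, S a (T a y) = y := fun a y => DFunLike.congr_fun (S_T hEL hk (hT a) (hS a)) y
  have hTi : ∀ a, (𝒮.deg a.U a.hU)₊ ≤ ((𝒯.deg a.U a.hU)₊).map (T a) := fun a =>
    irrelevant_le_of_rightInverse (T a) (S a) (hTS a)
  have hSi : ∀ a, (𝒯.deg a.U a.hU)₊ ≤ ((𝒮.deg a.U a.hU)₊).map (S a) := fun a =>
    irrelevant_le_of_rightInverse (S a) (T a) (hST a)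
  have hcov := exists_fIdx hL
  have hunit : ∀ (a b : FIdx L) (D : Y.Opens) (ia : D ≤ a.U) (ib : D ≤ b.U),
      ∃ c : Γ(Y, D), IsUnit c ∧ res L ib b.ℓ = c • res L ia a.ℓ := fun a b D ia ib => by
    obtain ⟨c, hc⟩ := a.frame.exists_coord ia (res L ib b.ℓ)
    exact ⟨c, isUnit_of_frames (a.frame.res ia) (b.frame.res ib) hc, hc⟩
  obtain ⟨r, hr0, hr⟩ := exists_glueProj hP hQ (fun a : FIdx L => a.U) (fun a => a.hU) hcov T hTi
    (fun a => (hT a).1) fun a b D hD ia ib _ _ => by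
      let a' := a.restrict hD ia
      let b' := b.restrict hD ib
      obtain ⟨c, hcu, hc⟩ := hunit a b D ia ib
      refine ⟨T a', T b', hTi a', hTi b', T_res hEL hk (hT a) (hT a'), T_res hEL hk (hT b) (hT b'), ?_⟩
      exact (proj_map_eq_of_scale hEL hk (T b') (T a') c hcu (hT b').1 (hT a').1
        (fun z => T_scale hc (hT a') (hT b') z) (hTi b') (hTi a')).symm
  obtain ⟨r', -, hr'⟩ := exists_glueProj hQ hP (fun a : FIdx L => a.U) (fun a => a.hU) hcov S hSi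
    (fun a => (hS a).1) fun a b D hD ia ib _ _ => by
      let a' := a.restrict hD ia
      let b' := b.restrict hD ib
      obtain ⟨c, hcu, hc⟩ := hunit a b D ia ib
      refine ⟨S a', S b', hSi a', hSi b', S_res hE hj (hS a) (hS a'), S_res hE hj (hS b) (hS b'), ?_⟩
      exact proj_map_eq_of_scale hE hj (S a') (S b') c hcu (hS a').1 (hS b').1
        (fun x => S_scale hc (hS a') (hS b') x) (hSi a') (hSi b')
  have h1 : r ≫ r' = 𝟙 P := by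
    refine (P.openCoverOfIsOpenCover (fun a : FIdx L => p ⁻¹ᵁ a.U)
      (top_le_iff.mp fun x _ => Opens.mem_iSup.mpr (hcov (p x)))).hom_ext _ _ fun a => ?_
    show (p ⁻¹ᵁ a.U).ι ≫ r ≫ r' = (p ⁻¹ᵁ a.U).ι ≫ 𝟙 P
    rw [← cancel_epi (chart a.U a.hU).inv, Category.comp_id, ← Category.assoc]
    show RelProj.emb p chart a.U a.hU ≫ r ≫ r' = RelProj.emb p chart a.U a.hU
    rw [reassoc_of% (hr a), hr' a, ← Category.assoc, ← Proj.map_comp,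
      Proj16.proj_map_congr (T_S hE hj (hT a) (hS a)) _ (by simp), Proj.map_id, Category.id_comp]
  have h2 : r' ≫ r = 𝟙 Q := by
    refine (Q.openCoverOfIsOpenCover (fun a : FIdx L => q ⁻¹ᵁ a.U)
      (top_le_iff.mp fun x _ => Opens.mem_iSup.mpr (hcov (q x)))).hom_ext _ _ fun a => ?_
    show (q ⁻¹ᵁ a.U).ι ≫ r' ≫ r = (q ⁻¹ᵁ a.U).ι ≫ 𝟙 Q
    rw [← cancel_epi (chartQ a.U a.hU).inv, Category.comp_id, ← Category.assoc]
    show RelProj.emb q chartQ a.U a.hU ≫ r' ≫ r = RelProj.emb q chartQ a.U a.hU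
    rw [reassoc_of% (hr' a), hr a, ← Category.assoc, ← Proj.map_comp,
      Proj16.proj_map_congr (S_T hEL hk (hT a) (hS a)) _ (by simp), Proj.map_id, Category.id_comp]
  refine ⟨⟨r, r', h1, h2⟩, hr0, fun a φ hφ hi => ?_⟩
  have : φ = T a := gradedHom_ext hEL hk (fun s => (hφ.1 s).trans ((hT a).1 s).symm) fun z => by
    obtain ⟨x, hx⟩ := (Eg2Twist.bijective_tmul_frame (M := E) a.frame (le_refl a.U)).2 z
    simp only [res_self] at hx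
    subst hx
    exact (hφ.2 x).trans ((hT a).2 x).symm
  exact (hr a).trans (congrArg (· ≫ _) (Proj16.proj_map_congr this.symm _ _))

end Groth.Agent.Eg2Bundle
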