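import Groth.Agent.Eg2Bundle.TensorIso
import Groth.Agent.Eg2Bundle.Quot
import Groth.Agent.Eg2Rel.GenFrame
import Groth.Agent.Eg2Sym.FundFrame

/-!
# The twisting sheaves under `P(E ⊗ L) ≅ P(E)`
-/

universe u

open CategoryTheory CategoryTheory.Limits AlgebraicGeometry TopologicalSpace Opposite HomogeneousLocalization
open Groth.Agent.AModX
open scoped HomogeneousIdeal

set_option backward.isDefEq.respectTransparency false
set_option backward.isDefEq.respectTransparency.types false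

noncomputable section

namespace Groth.Agent.Eg2Bundle

open Groth.Agent.Eg2Sym Groth.Agent.Eg2Rel

variable {Y : Scheme.{u}} {E L : Y.Modules}

/-- The powers of a section. -/
def lpow {U : Y.Opens} (ℓ : Γ(L, U)) : ∀ n : ℕ, Γ(CohB1.tensorPow L n, U)
  | 0 => (show Γ(Coh.structureModule Y, U) from (1 : Γ(Y, U)))
  | n + 1 => InvX.tmul (lpow ℓ n) ℓ

lemma res_lpow {U V : Y.Opens} (h : V ≤ U) (ℓ : Γ(L, U)) :
    ∀ n : ℕ, res (CohB1.tensorPow L n) h (lpow ℓ n) = lpow (res L h ℓ) n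
  | 0 => map_one (resR h)
  | n + 1 => (InvX.res_tmul h (lpow ℓ n) ℓ).trans (congrArg (fun t => InvX.tmul t (res L h ℓ)) (res_lpow h ℓ n))

lemma isFrame_lpow {U : Y.Opens} {ℓ : Γ(L, U)} (hℓ : InvX.IsFrame ℓ) :
    ∀ n : ℕ, InvX.IsFrame (lpow ℓ n)
  | 0 => InvX.isFrame_one U
  | n + 1 => InvX.isFrame_tmul (isFrame_lpow hℓ n) hℓ

lemma lpow_smul {U : Y.Opens} (c : Γ(Y, U)) (ℓ : Γ(L, U)) :
    ∀ n : ℕ, lpow (c • ℓ) n = c ^ n • lpow ℓ n
  | 0 => by rw [pow_zero, one_smul]; rfl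
  | n + 1 => by
    show InvX.tmul (lpow (c • ℓ) n) (c • ℓ) = c ^ (n + 1) • InvX.tmul (lpow ℓ n) ℓ
    rw [lpow_smul c ℓ n, InvX.tmul_smul_left, InvX.tmul_smul_right, ← mul_smul, ← pow_succ]

lemma zfac_natCast {R : Type*} [Monoid R] (a b : R) (n : ℕ) : zfac a b (n : ℤ) = a ^ n := by
  simp [zfac]

variable {𝒮 𝒯 : RelProj.QCGrAlg Y} {j : E ⟶ 𝒮.toModule} {k : CohB1.tensorMod E L ⟶ 𝒯.toModule}
  {P Q : Scheme.{u}} {p : P ⟶ Y} {q : Q ⟶ Y}
  {chart : ∀ (U : Y.Opens) (hU : IsAffineOpen U), ((p ⁻¹ᵁ U : P.Opens) : Scheme.{u}) ≅ Proj (𝒮.deg U hU)}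
  {chartQ : ∀ (U : Y.Opens) (hU : IsAffineOpen U), ((q ⁻¹ᵁ U : Q.Opens) : Scheme.{u}) ≅ Proj (𝒯.deg U hU)}

lemma resR_frac_congr {U : Y.Opens} (hU : IsAffineOpen U) {f f' g g' : 𝒮.presheaf.obj (op U)}
    (e : f = g) (e' : f' = g') (hf : f ∈ 𝒮.deg U hU 1) (hf' : f' ∈ 𝒮.deg U hU 1) (hg : g ∈ 𝒮.deg U hU 1)
    (hg' : g' ∈ 𝒮.deg U hU 1) {W : P.Opens} (h : W ≤ gOpen chart hU f) (h' : W ≤ gOpen chart hU g) :
    resR h (frac chart hU hf hf') = resR h' (frac chart hU hg hg') := by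
  subst e e'; rfl

theorem theta_gen1_smul (hj : RelProj.IsGrSymAlg E 𝒮 j) (hP : RelProj.IsRelProj 𝒮 p chart) {U : Y.Opens}
    (hU : IsAffineOpen U) (e x : Γ(E, U)) (c : Γ(Y, U)) :
    theta chart hU e (gen1 hj hU e (c • x)) =
      (p.appLE U (genOpen j chart hU e) (genOpen_le (j := j) (chart := chart) hU e)).hom c *
        theta chart hU e (gen1 hj hU e x) := by
  have h1 : gen1 hj hU e (c • x) = cst hj hU e c * gen1 hj hU e x := by
    refine val_injective _ ?_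
    rw [val_mul, gen1, gen1, cst, Away.val_mk, Away.val_mk, Away.val_mk, Localization.mk_mul, jApp_smul]
    exact Localization.mk_eq_mk_iff.mpr (Localization.r_of_eq (by simp))
  rw [h1, map_mul, cst_of_proj hj hP hU e (genOpen_le (j := j) (chart := chart) hU e) (theta chart hU e) ?_ c]
  rw [chartMap, toSpecΓ_theta hj hU e]

variable (hE : Coh.IsQCoh E) (hEL : Coh.IsQCoh (CohB1.tensorMod E L))
  (hj : RelProj.IsGrSymAlg E 𝒮 j) (hk : RelProj.IsGrSymAlg (CohB1.tensorMod E L) 𝒯 k)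
  (hP : RelProj.IsRelProj 𝒮 p chart) (hQ : RelProj.IsRelProj 𝒯 q chartQ)

include hE hEL hj hk hP hQ in
set_option maxHeartbeats 3200000 in
theorem exists_iso_twist (hL : PicF.IsInvertible L) :
    ∃ i : P ≅ Q, i.hom ≫ q = p ∧
      ∀ (n : ℕ) (OP : P.Modules)
        (lamP : ∀ (U : Y.Opens) (hU : IsAffineOpen U),
          OP ⟶ (Scheme.Modules.pushforward (RelProj.emb p chart U hU)).obj (GrTwist.twist (𝒮.deg U hU) (n : ℤ)))
        (OQ : Q.Modules)
        (lamQ : ∀ (U : Y.Opens) (hU : IsAffineOpen U),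
          OQ ⟶ (Scheme.Modules.pushforward (RelProj.emb q chartQ U hU)).obj (GrTwist.twist (𝒯.deg U hU) (n : ℤ))),
        RelProj.IsRelTwist 𝒮 p chart (n : ℤ) OP lamP → RelProj.IsRelTwist 𝒯 q chartQ (n : ℤ) OQ lamQ →
          Nonempty ((Scheme.Modules.pullback i.hom).obj OQ ≅
            CohB1.tensorMod OP ((Scheme.Modules.pullback p).obj (CohB1.tensorPow L n))) := by
  obtain ⟨i, hi0, hi⟩ := exists_iso hE hEL hj hk hP hQ hL
  refine ⟨i, hi0, fun n OP lamP OQ lamQ hLP hLQ => ?_⟩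
  choose T hT using fun a : FIdx L => exists_T (j := j) hEL hj hk a
  choose S hS using fun a : FIdx L => exists_S (k := k) hE hj hk a
  have hTi : ∀ a, (𝒮.deg a.U a.hU)₊ ≤ ((𝒯.deg a.U a.hU)₊).map (T a) := fun a =>
    irrelevant_le_of_rightInverse (T a) (S a) fun y => DFunLike.congr_fun (T_S hE hj (hT a) (hS a)) y
  let κ := Σ a : FIdx L, Γ(E, a.U)
  let f : ∀ c : κ, 𝒯.presheaf.obj (op c.1.U) := fun c =>
    jApp (A := 𝒯.toQCAlg) k c.1.U (InvX.tmul c.2 c.1.ℓ)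
  have hpre : ∀ c : κ, i.hom ⁻¹ᵁ gOpen chartQ c.1.hU (f c) =
      gOpen chart c.1.hU (jApp (A := 𝒮.toQCAlg) j c.1.U c.2) := fun c => by
    rw [preimage_gOpen c.1.hU (T c.1) (hTi _) (hi c.1 _ (hT c.1) (hTi _)) hi0, (hT c.1).2]
  have hle : ∀ c : κ, i.hom ⁻¹ᵁ gOpen chartQ c.1.hU (f c) ≤ p ⁻¹ᵁ c.1.U := fun c =>
    (hpre c).le.trans (gOpen_le _ _)
  refine nonempty_iso_pullback hLQ hQ i.hom (ι := κ) (fun c => c.1.U) (fun c => c.1.hU) f
    (fun c => hk.2 c.1.U c.1.hU _) (fun x => ?_)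
    (fun c => InvX.tmul (res OP (hpre c).le (fr hLP c.1.hU (hj.2 c.1.U c.1.hU c.2)))
      (res _ (hle c) (InvX.pullElt p (lpow c.1.ℓ n))))
    (fun c => InvX.isFrame_tmul ((isFrame_fr hLP _ _).res _)
      ((InvX.isFrame_pullElt p (isFrame_lpow c.1.frame n)).res _)) ?_
  · obtain ⟨a, ha⟩ := exists_fIdx hL (p x)
    obtain ⟨e, he⟩ := exists_mem_genOpen (chart := chart) hE hj a.hU x ha
    exact ⟨⟨a, e⟩, (hpre ⟨a, e⟩).ge he⟩
  intro a b D hD ia ib hba hbb W ha hb ha' hb'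
  let A := a.1.restrict hD ia
  obtain ⟨c, hc⟩ := a.1.frame.exists_coord ia (res L ib b.1.ℓ)
  set xa := res E ia a.2 with hxa
  set xb := res E ib b.2 with hxb
  have hea : T A (𝒯.res a.1.hU hD ia (f a)) = jApp (A := 𝒮.toQCAlg) j D xa := by
    rw [RelProj.QCGrAlg.res_apply, jApp_res (A := 𝒯.toQCAlg) k (homOfLE ia)]
    exact (congrArg (fun t => T A (jApp (A := 𝒯.toQCAlg) k D t)) (InvX.res_tmul ia a.2 a.1.ℓ)).trans
      ((hT A).2 xa)
  have heb : T A (𝒯.res b.1.hU hD ib (f b)) = jApp (A := 𝒮.toQCAlg) j D (c • xb) := by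
    rw [RelProj.QCGrAlg.res_apply, jApp_res (A := 𝒯.toQCAlg) k (homOfLE ib)]
    refine Eq.trans (congrArg (fun t => T A (jApp (A := 𝒯.toQCAlg) k D t)) ?_) ((hT A).2 (c • xb))
    refine (InvX.res_tmul ib b.2 b.1.ℓ).trans ?_
    rw [hc]
    exact (InvX.tmul_smul_right c xb _).trans (InvX.tmul_smul_left c xb _).symm
  have hpA := preimage_gOpen (chart := chartQ) (chartB := chart) hD (T A) (hTi A) (hi A _ (hT A) (hTi A))
    hi0 (𝒯.res a.1.hU hD ia (f a))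
  have haP : W ≤ genOpen j chart hD xa := by
    exact (ha.trans hpA.le).trans (le_of_eq (congrArg (gOpen chart hD) hea))
  have hb0 : W ≤ gOpen chart b.1.hU (jApp (A := 𝒮.toQCAlg) j b.1.U b.2) := hb'.trans (hpre b).le
  have hWD : W ≤ p ⁻¹ᵁ D := haP.trans (genOpen_le (j := j) (chart := chart) hD xa)
  have hbP : W ≤ genOpen j chart hD xb := by
    have hres : 𝒮.res b.1.hU hD ib (jApp (A := 𝒮.toQCAlg) j b.1.U b.2) = jApp (A := 𝒮.toQCAlg) j D xb :=
      jApp_res (A := 𝒮.toQCAlg) j (homOfLE ib) b.2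
    have h : W ≤ gOpen chart hD (𝒮.res b.1.hU hD ib (jApp (A := 𝒮.toQCAlg) j b.1.U b.2)) := by
      rw [gOpen_res hP b.1.hU hD ib hbb]; exact le_inf hb0 hWD
    rw [hres] at h
    exact h
  have key : ∀ (d : κ) (id' : D ≤ d.1.U) (_ : ∃ r : Γ(Y, d.1.U), Y.basicOpen r = D)
      (h1 : W ≤ genOpen j chart hD (res E id' d.2)) (h2 : W ≤ i.hom ⁻¹ᵁ gOpen chartQ d.1.hU (f d)),
      res OP h2 (res OP (hpre d).le (fr hLP d.1.hU (hj.2 d.1.U d.1.hU d.2))) =
        res OP h1 (fr hLP hD (hj.2 D hD (res E id' d.2))) := by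
    intro d id' hd h1 h2
    have e : 𝒮.res d.1.hU hD id' (jApp (A := 𝒮.toQCAlg) j d.1.U d.2) =
        jApp (A := 𝒮.toQCAlg) j D (res E id' d.2) := jApp_res (A := 𝒮.toQCAlg) j (homOfLE id') d.2
    have h3 : W ≤ gOpen chart hD (𝒮.res d.1.hU hD id' (jApp (A := 𝒮.toQCAlg) j d.1.U d.2)) := by
      rw [e]; exact h1
    refine (res_res (M := OP) _ _ _).trans ?_
    have h4 := res_fr hLP d.1.hU hP hD id' hd (hj.2 d.1.U d.1.hU d.2)
    refine Eq.trans ((res_res (M := OP) _ h3 _).symm.trans (congrArg (res OP h3) h4)) ?_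
    revert h3
    intro h3
    have hgen : ∀ (g g' : 𝒮.presheaf.obj (op D)) (_ : g = g') (hg : g ∈ 𝒮.deg D hD 1) (hg' : g' ∈ 𝒮.deg D hD 1)
        (u : W ≤ gOpen chart hD g) (u' : W ≤ gOpen chart hD g'),
        res OP u (fr hLP hD hg) = res OP u' (fr hLP hD hg') := by
      rintro g _ rfl hg hg' u u'
      rfl
    exact hgen _ _ e _ _ h3 h1
  have hfa : 𝒯.res a.1.hU hD ia (f a) ∈ 𝒯.deg D hD 1 :=
    (𝒯.res a.1.hU hD ia).map_mem (hk.2 a.1.U a.1.hU (InvX.tmul a.2 a.1.ℓ))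
  have hfb : 𝒯.res b.1.hU hD ib (f b) ∈ 𝒯.deg D hD 1 :=
    (𝒯.res b.1.hU hD ib).map_mem (hk.2 b.1.U b.1.hU (InvX.tmul b.2 b.1.ℓ))
  set pc := (p.appLE D W hWD).hom c with hpc
  have hu : (i.hom.appLE _ W ha).hom (frac chartQ hD hfa
      hfb) =
      pc * resR haP (theta chart hD xa (gen1 hj hD xa xb)) := by
    have h1 := appLE_frac (chart := chartQ) (chartB := chart) hD (T A) (hTi A) (hi A _ (hT A) (hTi A))
      hfa hfb
      hpA.ge
    refine (congr($(i.hom.appLE_map hpA.ge (homOfLE (ha.trans hpA.le)).op).hom _)).symm.trans ?_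
    refine (congrArg (resR (ha.trans hpA.le)) h1).trans ?_
    refine (resR_frac_congr (chart := chart) hD hea heb _ _ (hj.2 D hD xa) (hj.2 D hD (c • xb)) _ haP).trans ?_
    show resR haP (theta chart hD xa (gen1 hj hD xa (c • xb))) = _
    rw [theta_gen1_smul hj hP hD xa xb c, map_mul]
    congr 1
    exact congr($(p.appLE_map (genOpen_le (j := j) (chart := chart) hD xa) (homOfLE haP).op).hom c)
  have hP2 : res _ hb' (res _ (hle b) (InvX.pullElt p (lpow b.1.ℓ n))) =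
      (show Γ(P, W) from pc ^ n) • res _ ha' (res _ (hle a) (InvX.pullElt p (lpow a.1.ℓ n))) := by
    have h1 := congrArg (fun t => res _ hWD (InvX.pullElt p t))
      ((res_lpow ib b.1.ℓ n).trans ((congrArg (fun t => lpow t n) hc).trans (lpow_smul c _ n)))
    rw [← res_lpow ia a.1.ℓ n, InvX.pullElt_smul, res_smul, ← InvX.res_pullElt, ← InvX.res_pullElt,
      res_res, res_res] at h1
    rw [res_res, res_res]
    refine h1.trans ?_
    congr 1
    rw [hpc, map_pow, map_pow]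
    rfl
  rw [InvX.res_tmul, InvX.res_tmul, key b ib hbb hbP hb', key a ia hba haP ha']
  refine (congrArg₂ (fun u v => InvX.tmul u v)
    (fr_transition hLP hD (hj.2 D hD xa) (hj.2 D hD xb) haP hbP) hP2).trans ?_
  rw [InvX.tmul_smul_left, InvX.tmul_smul_right, ← mul_smul]
  refine congrArg (fun t : Γ(P, W) => t • InvX.tmul _ _) ?_
  rw [zfac_natCast, zfac_natCast]
  refine Eq.trans ?_ (congrArg (· ^ n) hu).symm
  rw [mul_pow, mul_comm]
  rfl

end Groth.Agent.Eg2Bundle
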