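import Groth.Agent.Eg2Bundle.Quot

/-!
# The universal property of a projective bundle
-/

universe u

open CategoryTheory CategoryTheory.Limits AlgebraicGeometry TopologicalSpace Opposite HomogeneousLocalization
open Groth.Agent.AModX
open scoped HomogeneousIdeal

set_option backward.isDefEq.respectTransparency false
set_option backward.isDefEq.respectTransparency.types false

noncomputable section

namespace Groth.Agent.Eg2Bundle

open Groth.Agent.Eg2Sym

variable {Y X P : Scheme.{u}} {E : Y.Modules} {p : P ⟶ Y} {g : X ⟶ Y} {L : X.Modules} {r : X ⟶ P}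
  {O1 : P.Modules} (φ : E ⟶ (Scheme.Modules.pushforward p).obj O1)

/-- The quotient induced by `r` through `τ`. -/
def composite (hr : r ≫ p = g) (τ : (Scheme.Modules.pullback r).obj O1 ⟶ L) :
    (Scheme.Modules.pullback g).obj E ⟶ L :=
  (Scheme.Modules.pullbackCongr hr).inv.app E ≫ (Scheme.Modules.pullbackComp r p).inv.app E ≫
    (Scheme.Modules.pullback r).map
      (((Scheme.Modules.pullbackPushforwardAdjunction p).homEquiv E O1).symm φ) ≫ τ

lemma composite_pullElt (τ : (Scheme.Modules.pullback r).obj O1 ⟶ L) (U : Y.Opens) (x : Γ(E, U)) :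
    (composite φ (rfl : r ≫ p = r ≫ p) τ).app (r ⁻¹ᵁ p ⁻¹ᵁ U) (InvX.pullElt (r ≫ p) x) =
      τ.app (r ⁻¹ᵁ p ⁻¹ᵁ U) (InvX.pullElt r (show Γ(O1, p ⁻¹ᵁ U) from φ.app U x)) := by
  set a := ((Scheme.Modules.pullbackPushforwardAdjunction p).homEquiv E O1).symm φ with ha
  have h0 : (Scheme.Modules.pullbackCongr (rfl : r ≫ p = r ≫ p)).inv.app E = 𝟙 _ := by
    simp [Scheme.Modules.pullbackCongr]
  have h1 : a.app (p ⁻¹ᵁ U) (InvX.pullElt p x) = (show Γ(O1, p ⁻¹ᵁ U) from φ.app U x) := by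
    have h := congrArg (fun t : E ⟶ (Scheme.Modules.pushforward p).obj O1 => t.app U x)
      ((Adjunction.homEquiv_unit _ E O1 a).symm.trans
        (((Scheme.Modules.pullbackPushforwardAdjunction p).homEquiv E O1).apply_symm_apply φ))
    exact h
  have h2 : ((Scheme.Modules.pullbackComp r p).inv.app E).app (r ⁻¹ᵁ p ⁻¹ᵁ U)
      (InvX.pullElt (r ≫ p) x) = InvX.pullElt r (InvX.pullElt p x) := by
    have h := EtLC12.AssocUnit.usec_comp r p E U x
    refine (congrArg (((Scheme.Modules.pullbackComp r p).inv.app E).app (r ⁻¹ᵁ p ⁻¹ᵁ U)) h.symm).trans ?_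
    exact congr($((Iso.hom_inv_id_app (Scheme.Modules.pullbackComp r p) E)).app (r ⁻¹ᵁ p ⁻¹ᵁ U)
      (InvX.pullElt r (InvX.pullElt p x)))
  rw [composite, h0, Category.id_comp]
  show τ.app _ (((Scheme.Modules.pullback r).map a).app _
    (((Scheme.Modules.pullbackComp r p).inv.app E).app _ (InvX.pullElt (r ≫ p) x))) = _
  exact congrArg (τ.app _) ((congrArg (((Scheme.Modules.pullback r).map a).app _) h2).trans
    ((InvX.map_pullElt r a (InvX.pullElt p x)).trans (congrArg (InvX.pullElt r) h1)))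

/-- When the quotient induced by `r` and `τ` is `s`. -/
theorem composite_eq_iff (hr : r ≫ p = g) (τ : (Scheme.Modules.pullback r).obj O1 ⟶ L)
    (s : (Scheme.Modules.pullback g).obj E ⟶ L) :
    composite φ hr τ = s ↔ ∀ (U : Y.Opens), IsAffineOpen U → ∀ (x : Γ(E, U))
      (h : r ⁻¹ᵁ p ⁻¹ᵁ U ≤ g ⁻¹ᵁ U),
      τ.app (r ⁻¹ᵁ p ⁻¹ᵁ U) (InvX.pullElt r (show Γ(O1, p ⁻¹ᵁ U) from φ.app U x)) =
        sec g ((Scheme.Modules.pullbackPushforwardAdjunction g).homEquiv E L s) h x := by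
  subst hr
  constructor
  · intro h U _ x hle
    rw [← composite_pullElt, h, sec_homEquiv]
    exact congrArg (s.app _) (res_self _).symm
  · intro h
    refine ((Scheme.Modules.pullbackPushforwardAdjunction (r ≫ p)).homEquiv E L).injective
      (ProjDualR.HomAffine.hom_ext _ _ fun U => ?_)
    ext x
    have h2 := (composite_pullElt φ τ U.1 x).trans (h U.1 U.2 x le_rfl)
    have h3 := h2.trans (res_self (M := L) _)
    rw [Adjunction.homEquiv_unit]
    exact h3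

variable {𝒮 : RelProj.QCGrAlg Y} {j : E ⟶ 𝒮.toModule}
  {chart : ∀ (U : Y.Opens) (hU : IsAffineOpen U), ((p ⁻¹ᵁ U : P.Opens) : Scheme.{u}) ≅ Proj (𝒮.deg U hU)}
  (hE : Coh.IsQCoh E) (hj : RelProj.IsGrSymAlg E 𝒮 j) (hP : RelProj.IsRelProj 𝒮 p chart)
  {lam : ∀ (U : Y.Opens) (hU : IsAffineOpen U),
    O1 ⟶ (Scheme.Modules.pushforward (RelProj.emb p chart U hU)).obj (GrTwist.twist (𝒮.deg U hU) 1)}
  (hO1 : RelProj.IsRelTwist 𝒮 p chart 1 O1 lam)
  (hφ : ∀ (U : Y.Opens) (hU : IsAffineOpen U) (e : Γ(E, U))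
    (y : ↥(RelProj.emb p chart U hU ⁻¹ᵁ (p ⁻¹ᵁ U))),
    GrTwist.val (V := RelProj.emb p chart U hU ⁻¹ᵁ (p ⁻¹ᵁ U))
        ((lam U hU).app (p ⁻¹ᵁ U) ((φ.app U) e)) y =
      algebraMap (𝒮.presheaf.obj (op U)) (GrTwist.Loc (𝒮.deg U hU) y.1)
        ((j.app U) e : 𝒮.presheaf.obj (op U)))

include hE hj hO1 hφ in
set_option maxHeartbeats 1600000 in
/-- The quotient is the inverse image of the fundamental sheaf. -/
theorem exists_tau {σ : E ⟶ (Scheme.Modules.pushforward g).obj L} (hr : r ≫ p = g)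
    (hspec : ∀ (a : Datum σ) (κ : CR j a.hU a.e →+* Γ(X, a.V)),
      IsKappa σ hj a.hU a.e a.le κ → a.V.ι ≫ r = chartMap chart hj a.hU a.e κ)
    (hσ : ∀ x, ∃ a : Datum σ, x ∈ a.V) :
    ∃ τ : (Scheme.Modules.pullback r).obj O1 ≅ L, ∀ (U : Y.Opens), IsAffineOpen U → ∀ (x : Γ(E, U))
      (h : r ⁻¹ᵁ p ⁻¹ᵁ U ≤ g ⁻¹ᵁ U),
      τ.hom.app (r ⁻¹ᵁ p ⁻¹ᵁ U) (InvX.pullElt r (show Γ(O1, p ⁻¹ᵁ U) from φ.app U x)) = sec g σ h x := by
  have hpre : ∀ U : Y.Opens, g ⁻¹ᵁ U = r ⁻¹ᵁ p ⁻¹ᵁ U := fun U => by rw [← Scheme.Hom.comp_preimage, hr]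
  let hp : ∀ a : Datum σ, a.V ≤ r ⁻¹ᵁ p ⁻¹ᵁ a.U := fun a => a.le.trans (hpre a.U).le
  let m : ∀ a : Datum σ, Γ((Scheme.Modules.pullback r).obj O1, a.V) := fun a => pp r φ (hp a) a.e
  let n : ∀ a : Datum σ, Γ(L, a.V) := fun a => sec g σ a.le a.e
  have hm : ∀ a, InvX.IsFrame (m a) := fun a => by
    obtain ⟨κ, hκ⟩ := exists_isKappa hE hj a.hU a.e a.le a.frame
    exact isFrame_pp hj hO1 φ hφ a.hU a.e (le_preimage_genOpen hj a.hU a.e κ (hspec a κ hκ)) _
  have hc1 : ∀ (a b : Datum σ) (W : X.Opens) (ha : W ≤ a.V) (hb : W ≤ b.V) (k : Γ(X, W)),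
      res _ hb (m b) = k • res _ ha (m a) → res L hb (n b) = k • res L ha (n a) := by
    intro a b W ha hb k hk
    refine eq_of_locally _ _ fun w hw => ?_
    obtain ⟨W', hW, c, hw', h1, h2, -, hfp⟩ := exists_common hE hj hO1 φ hφ hr hspec a b.hU b.e ha
      (hb.trans b.le) (ha.trans (hp a)) (hb.trans (hp b)) w hw
    refine ⟨W', hW, hw', ?_⟩
    have hk' := congrArg (res _ hW) hk
    simp only [m, res_smul, res_pp] at hk'
    simp only [n, res_smul, res_sec]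
    rw [h1, ← hfp.coord_unique le_rfl (r := c) (r' := resR hW k) (by rw [res_self, ← h2, ← hk'])]
  have hc2 : ∀ (a b : Datum σ) (W : X.Opens) (ha : W ≤ a.V) (hb : W ≤ b.V) (k : Γ(X, W)),
      res L hb (n b) = k • res L ha (n a) → res _ hb (m b) = k • res _ ha (m a) := by
    intro a b W ha hb k hk
    refine eq_of_locally _ _ fun w hw => ?_
    obtain ⟨W', hW, c, hw', h1, h2, hfs, -⟩ := exists_common hE hj hO1 φ hφ hr hspec a b.hU b.e ha
      (hb.trans b.le) (ha.trans (hp a)) (hb.trans (hp b)) w hw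
    refine ⟨W', hW, hw', ?_⟩
    have hk' := congrArg (res L hW) hk
    simp only [n, res_smul, res_sec] at hk'
    simp only [m, res_smul, res_pp]
    rw [h2, ← hfs.coord_unique le_rfl (r := c) (r' := resR hW k) (by rw [res_self, ← h1, ← hk'])]
  let τh := InvX.ofFrames (U := fun a : Datum σ => a.V) (e := m) (n := n) hσ hm hc1
  let τi := InvX.ofFrames (U := fun a : Datum σ => a.V) (e := n) (n := m) hσ (fun a => a.frame) hc2
  refine ⟨⟨τh, τi, ?_, ?_⟩, fun U hU x hle => ?_⟩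
  · refine InvX.hom_ext_of_frames _ hσ m hm fun a => ?_
    show τi.app a.V (τh.app a.V (m a)) = m a
    rw [InvX.ofFrames_app, InvX.ofFrames_app]
  · refine InvX.hom_ext_of_frames _ hσ n (fun a => a.frame) fun a => ?_
    show τh.app a.V (τi.app a.V (n a)) = n a
    rw [InvX.ofFrames_app, InvX.ofFrames_app]
  · show τh.app _ _ = _
    refine eq_of_locally _ _ fun w hw => ?_
    obtain ⟨a, ha⟩ := hσ w
    obtain ⟨W', hW, c, hw', h1, h2, -, -⟩ := exists_common hE hj hO1 φ hφ hr hspec a hU x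
      (W := r ⁻¹ᵁ p ⁻¹ᵁ U ⊓ a.V) inf_le_right (inf_le_left.trans hle) (inf_le_right.trans (hp a))
      inf_le_left w ⟨hw, ha⟩
    refine ⟨W', hW.trans inf_le_left, hw', ?_⟩
    rw [← app_res, res_sec, h1]
    rw [show res _ (hW.trans inf_le_left) (InvX.pullElt r (show Γ(O1, p ⁻¹ᵁ U) from φ.app U x)) =
      pp r φ (hW.trans inf_le_left) x from rfl, h2, Scheme.Modules.Hom.app_smul,
      ← res_pp φ (hp a) (hW.trans inf_le_right), InvX.ofFrames_app_res, res_sec]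

include hE hO1 hφ hP in
set_option maxHeartbeats 1600000 in
theorem existsUnique_of_epi (hL : PicF.IsInvertible L)
    (s : (Scheme.Modules.pullback g).obj E ⟶ L) [Epi s] (hj : RelProj.IsGrSymAlg E 𝒮 j) :
    ∃! r : X ⟶ P, ∃ (hr : r ≫ p = g) (τ : (Scheme.Modules.pullback r).obj O1 ≅ L),
      composite φ hr τ.hom = s := by
  set σ := (Scheme.Modules.pullbackPushforwardAdjunction g).homEquiv E L s with hσdef
  have hσ : ∀ x, ∃ a : Datum σ, x ∈ a.V := fun x => by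
    obtain ⟨U, hU, e, V, h, hx, he⟩ := exists_sec_frame hE hL s x
    exact ⟨⟨U, hU, e, V, h, he⟩, hx⟩
  obtain ⟨r, hr, hspec⟩ := exists_classifying (chart := chart) hE hj hP hσ
  obtain ⟨τ, hτ⟩ := exists_tau φ hE hj hO1 hφ hr hspec hσ
  refine ⟨r, ⟨hr, τ, (composite_eq_iff φ hr τ.hom s).2 hτ⟩, ?_⟩
  rintro r' ⟨hr', τ', hτ'⟩
  have h' := (composite_eq_iff φ hr' τ'.hom s).1 hτ'
  have hex : ∀ x : X, ∃ (U : Y.Opens) (hU : IsAffineOpen U) (e : Γ(E, U)),
      r' x ∈ genOpen j chart hU e := fun x => by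
    obtain ⟨U, hU, hxU, -⟩ := exists_isAffineOpen_mem_and_subset (U := (⊤ : Y.Opens)) (x := g x) (Opens.mem_top _)
    have : p (r' x) ∈ U := by rw [← Scheme.Hom.comp_apply, hr']; exact hxU
    exact ⟨U, hU, exists_mem_genOpen hE hj hU (r' x) this⟩
  choose U hU e he using hex
  let V : X → X.Opens := fun x => r' ⁻¹ᵁ genOpen j chart (hU x) (e x)
  refine (X.openCoverOfIsOpenCover V
    (top_le_iff.mp fun x _ => Opens.mem_iSup.mpr ⟨x, he x⟩)).hom_ext _ _ fun x => ?_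
  show (V x).ι ≫ r' = (V x).ι ≫ r
  have hpre : r' ⁻¹ᵁ p ⁻¹ᵁ U x ≤ g ⁻¹ᵁ U x := by rw [← Scheme.Hom.comp_preimage, hr']
  have hVp : V x ≤ r' ⁻¹ᵁ p ⁻¹ᵁ U x := r'.preimage_mono (genOpen_le (j := j) (chart := chart) (hU x) (e x))
  have hVU : V x ≤ g ⁻¹ᵁ U x := hVp.trans hpre
  have hsec : ∀ y : Γ(E, U x), sec g σ hVU y = τ'.hom.app (V x) (pp r' φ hVp y) := fun y => by
    rw [pp, app_res, h' (U x) (hU x) y hpre, res_sec]
  have hfr : InvX.IsFrame (sec g σ hVU (e x)) := by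
    rw [hsec]
    exact (isFrame_pp hj hO1 φ hφ (hU x) (e x) le_rfl hVp).map_iso τ'
  have hm := ι_comp_eq_chartMap hj (hU x) (e x) r' (le_refl (V x))
  set κ' := (r'.appLE (genOpen j chart (hU x) (e x)) (V x) le_rfl).hom.comp (theta chart (hU x) (e x))
  have hκ : IsKappa σ hj (hU x) (e x) hVU κ' := by
    refine ⟨fun c => cst_of_proj hj hP (hU x) (e x) hVU κ' ?_ c, fun y => ?_⟩
    · rw [← hm, Category.assoc, hr']
    · rw [hsec, hsec, pp_coord hj hO1 φ hφ (hU x) (e x) le_rfl hVp y, Scheme.Modules.Hom.app_smul]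
      rfl
  exact hm.trans (hspec ⟨U x, hU x, e x, V x, hVU, hfr⟩ κ' hκ).symm

end Groth.Agent.Eg2Bundle
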